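import Cfsg.Agent.Lib.Commutator.Inv
import Cfsg.Agent.Lib.Semisimple.Basic

/-!
Base cases of the commutator induction: dimension two over at least four elements and dimension three
over two or three elements.
-/

set_option autoImplicit false

open Polynomial Module

namespace Cfsg.Agent.Commutator

universe u

variable {F : Type u} [Field F] {V : Type u} [AddCommGroup V] [Module F V] [FiniteDimensional F V]

theorem charpoly_dualMap (f : End F V) : f.dualMap.charpoly = f.charpoly := by
  classical
  let b := Module.finBasis F V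
  rw [← LinearMap.charpoly_toMatrix f.dualMap b.dualBasis, ← LinearMap.charpoly_toMatrix f b,
    LinearMap.dualMap_def, LinearMap.toMatrix_transpose, Matrix.charpoly_transpose]

/-- The base of the induction. -/
theorem inv_base (g y : End F V) (X : V) (Y : Dual F V) (hy : LinearMap.det y = 1)
    (hc : (g * y).charpoly = y.charpoly) (hsq : Squarefree y.charpoly) (h1 : y.charpoly.eval 1 ≠ 0)
    (hQ : ∀ d : F, d ≠ 0 → ∃ Q : F[X], Q.eval 1 = 1 ∧ LinearMap.det (aeval y Q) = d) :
    Inv g X Y := by
  have s1 : Semisimple.SS (K := F) (g * y) :=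
    ⟨(g * y).charpoly, hc ▸ hsq, LinearMap.aeval_self_charpoly _⟩
  have s2 : Semisimple.SS (K := F) y.dualMap :=
    ⟨y.dualMap.charpoly, (charpoly_dualMap y).symm ▸ hsq, LinearMap.aeval_self_charpoly _⟩
  obtain ⟨e, he⟩ := Semisimple.exists_intertwine (finrank F V) V (Dual F V) (g * y) y.dualMap rfl s1 s2
    (by rw [charpoly_dualMap, hc])
  let L : Dual F V →ₗ[F] Dual F V := y.dualMap - LinearMap.id
  have hL : Function.Surjective L := by
    refine LinearMap.surjective_of_injective ((injective_iff_map_eq_zero L).2 fun w hw => ?_)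
    by_contra hw0
    apply h1
    rw [← charpoly_dualMap]
    refine (Module.End.hasEigenvalue_iff_isRoot_charpoly _ 1).1 ?_
    refine Module.End.hasEigenvalue_of_hasEigenvector (x := w) ⟨?_, hw0⟩
    rw [Module.End.mem_eigenspace_iff, one_smul]
    exact sub_eq_zero.1 hw
  obtain ⟨w, hw⟩ := hL (e X - Y.comp y)
  refine ⟨y, e, 1, w, one_ne_zero, hy, hQ, fun x => he x, ?_, fun ψ => ?_⟩
  · rw [one_smul, ← sub_eq_iff_eq_add']
    exact hw.symm
  · obtain ⟨w', hw'⟩ := hL ψ
    exact ⟨0, w', by rw [zero_smul, zero_add]; exact hw'.symm⟩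

/-- A vector which is not an eigenvector of a nonscalar operator. -/
theorem exists_indep (g : End F V) (hg : ∀ a : F, g ≠ a • LinearMap.id) :
    ∃ v : V, LinearIndependent F ![v, g v] := by
  by_contra hne
  push Not at hne
  obtain ⟨a, ha⟩ := g.exists_eq_smul_id_of_forall_notLinearIndependent hne
  exact hg a ha

/-- Dimension two. -/
theorem inv_two [Fintype F] (hq : 4 ≤ Fintype.card F) (g : End F V) (hn : finrank F V = 2)
    (hd : LinearMap.det g = 1) (hg : ∀ a : F, g ≠ a • LinearMap.id) (X : V) (Y : Dual F V) :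
    Inv g X Y := by
  classical
  obtain ⟨z, hz⟩ : ∃ z : F, z ∉ ({0, 1, -1} : Finset F) := by
    by_contra hne
    push Not at hne
    have := Finset.card_le_card (fun x (_ : x ∈ (Finset.univ : Finset F)) => hne x)
    have := (Finset.card_le_three (a := (0 : F)) (b := 1) (c := -1))
    rw [Finset.card_univ] at *
    omega
  simp only [Finset.mem_insert, Finset.mem_singleton, not_or] at hz
  obtain ⟨hz0, hz1, hz2⟩ := hz
  obtain ⟨v, hv⟩ := exists_indep g hg
  let b : Basis (Fin 2) F V := basisOfLinearIndependentOfCardEqFinrank hv (by simp [hn])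
  set G := LinearMap.toMatrix b b g with hG
  have hb : ⇑b = ![v, g v] := coe_basisOfLinearIndependentOfCardEqFinrank _ _
  have hcol : ∀ i, G i 0 = if i = 1 then 1 else 0 := by
    intro i
    rw [hG, LinearMap.toMatrix_apply, hb]
    show b.repr (g v) i = _
    rw [show g v = b 1 by simp [hb], Basis.repr_self, Finsupp.single_apply]
    simp [eq_comm]
  have hGd : G.det = 1 := by rw [hG, LinearMap.det_toMatrix, hd]
  have h01 : G 0 1 = -1 := by
    rw [Matrix.det_fin_two, hcol 0, hcol 1] at hGd
    simp at hGd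
    linear_combination -hGd
  let ym : Matrix (Fin 2) (Fin 2) F := !![z, z + z⁻¹ - G 1 1 / z; 0, z⁻¹]
  let y : End F V := Matrix.toLin b b ym
  have hym : LinearMap.toMatrix b b y = ym := LinearMap.toMatrix_toLin b b ym
  have hych : y.charpoly = (Polynomial.X - C z) * (Polynomial.X - C z⁻¹) := by
    rw [← LinearMap.charpoly_toMatrix y b, hym, Matrix.charpoly_fin_two]
    simp [ym, Matrix.trace_fin_two, Matrix.det_fin_two, mul_inv_cancel₀ hz0]
    have : (C z : F[X]) * C z⁻¹ = 1 := by rw [← C_mul, mul_inv_cancel₀ hz0, C_1]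
    linear_combination -this
  have hne : z ≠ z⁻¹ := fun h => by
    have : z * z = 1 := (congrArg (z * ·) h).trans (mul_inv_cancel₀ hz0)
    rcases mul_self_eq_one_iff.1 this with h' | h'
    · exact hz1 h'
    · exact hz2 h'
  refine inv_base g y X Y ?_ ?_ ?_ ?_ ?_
  · rw [← LinearMap.det_toMatrix b, hym]
    simp [ym, Matrix.det_fin_two, mul_inv_cancel₀ hz0]
  · rw [← LinearMap.charpoly_toMatrix (g * y) b, ← LinearMap.charpoly_toMatrix y b, hym,
      LinearMap.toMatrix_mul, hym, ← hG, Matrix.charpoly_fin_two, Matrix.charpoly_fin_two,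
      Matrix.det_mul, hGd, one_mul]
    congr 3
    simp [Matrix.trace_fin_two, Matrix.mul_apply, Fin.sum_univ_two, ym, hcol, h01]
    rw [div_eq_mul_inv, C_mul]
    ring
  · rw [hych]
    exact ((separable_X_sub_C.mul separable_X_sub_C
      (isCoprime_X_sub_C_of_isUnit_sub (sub_ne_zero.2 hne).isUnit))).squarefree
  · rw [hych]
    simp [sub_eq_zero, Ne.symm hz1, eq_comm (a := (1 : F)), inv_eq_one]
    exact hz1
  · intro d hd0
    have hd' : (z - 1) * (z - z⁻¹) ≠ 0 := mul_ne_zero (sub_ne_zero.2 hz1) (sub_ne_zero.2 hne)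
    set k := (d - 1) / ((z - 1) * (z - z⁻¹))
    refine ⟨1 + C k * ((Polynomial.X - C 1) * (Polynomial.X - C z⁻¹)), by simp, ?_⟩
    rw [← LinearMap.det_toMatrix b,
      show LinearMap.toMatrix b b (aeval y (1 + C k * ((Polynomial.X - C 1) * (Polynomial.X - C z⁻¹)))) =
        aeval ym (1 + C k * ((Polynomial.X - C 1) * (Polynomial.X - C z⁻¹))) by
      rw [← hym]; exact (aeval_algHom_apply (LinearMap.toMatrixAlgEquiv b).toAlgHom y _).symm]
    simp [ym, Matrix.det_fin_two, Matrix.mul_apply, Fin.sum_univ_two, Matrix.algebraMap_eq_diagonal]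
    have : k * ((z - 1) * (z - z⁻¹)) = d - 1 := div_mul_cancel₀ _ hd'
    linear_combination this

end Cfsg.Agent.Commutator
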