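import Cfsg.Agent.Lib.Commutator.Inv

/-!
Counting lemmas choosing the vector and the functional for the inductive step.
-/

set_option autoImplicit false

open Module Submodule

namespace Cfsg.Agent.Commutator

universe u

variable {F : Type u} [Field F] {V : Type u} [AddCommGroup V] [Module F V] [FiniteDimensional F V]

theorem exists_hyperplane_ge {H : Submodule F V} (h : H ≠ ⊤) :
    ∃ f : Dual F V, H ≤ LinearMap.ker f ∧ finrank F (LinearMap.ker f) + 1 = finrank F V := by
  obtain ⟨f, hf0, hf⟩ := Submodule.exists_dual_map_eq_bot_of_lt_top (lt_top_iff_ne_top.2 h) inferInstance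
  exact ⟨f, LinearMap.le_ker_iff_map.2 hf, Module.Dual.finrank_ker_add_one_of_ne_zero hf0⟩

theorem exists_notMem {H : Submodule F V} (h : H ≠ ⊤) : ∃ a, a ∉ H := by
  by_contra hne
  exact h (eq_top_iff'.2 fun x => not_exists_not.1 hne x)

theorem ne_top_of_finrank_lt {H : Submodule F V} (h : finrank F H < finrank F V) : H ≠ ⊤ := by
  rintro rfl
  rw [finrank_top] at h
  omega

theorem finrank_sup_singleton {U : Submodule F V} {v : V} (h : v ∉ U) :
    finrank F ↥(U ⊔ span F {v}) = finrank F U + 1 := by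
  have hv : v ≠ 0 := fun h0 => h (h0 ▸ U.zero_mem)
  have := Submodule.finrank_sup_add_finrank_inf_eq U (span F {v})
  rw [finrank_span_singleton hv] at this
  have hb : U ⊓ span F {v} = ⊥ := (disjoint_span_singleton' hv).2 h |>.eq_bot
  rw [hb, finrank_bot] at this
  omega

theorem finrank_sup_singleton_le (U : Submodule F V) (v : V) :
    finrank F ↥(U ⊔ span F {v}) ≤ finrank F U + 1 := by
  refine (Submodule.finrank_add_le_finrank_add_finrank _ _).trans (Nat.add_le_add_left ?_ _)
  exact (finrank_span_le_card _).trans (by simp)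

/-- Three proper subspaces do not cover, over at least three elements or if one has codimension two. -/
theorem exists_not_mem_three {G1 G2 H3 : Submodule F V} (h1 : G1 ≠ ⊤) (h2 : G2 ≠ ⊤) (h3 : H3 ≠ ⊤)
    (h : (∃ t : F, t ≠ 0 ∧ t ≠ 1) ∨ finrank F H3 + 2 ≤ finrank F V) :
    ∃ v, v ∉ G1 ∧ v ∉ G2 ∧ v ∉ H3 := by
  obtain ⟨f1, hG1, hf1⟩ := exists_hyperplane_ge h1
  obtain ⟨f2, hG2, hf2⟩ := exists_hyperplane_ge h2
  set H1 := LinearMap.ker f1
  set H2 := LinearMap.ker f2
  suffices ∃ v, v ∉ H1 ∧ v ∉ H2 ∧ v ∉ H3 by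
    obtain ⟨v, a, b, c⟩ := this
    exact ⟨v, fun hm => a (hG1 hm), fun hm => b (hG2 hm), c⟩
  obtain ⟨v, hv1, hv2⟩ : ∃ v, v ∉ H1 ∧ v ∉ H2 := by
    obtain ⟨a, ha⟩ := exists_notMem (ne_top_of_finrank_lt (H := H1) (by omega))
    obtain ⟨b, hb⟩ := exists_notMem (ne_top_of_finrank_lt (H := H2) (by omega))
    by_cases ha2 : a ∈ H2
    · by_cases hb1 : b ∈ H1
      · exact ⟨a + b, fun hm => ha ((add_mem_cancel_right hb1).1 hm), fun hm => hb ((add_mem_cancel_left ha2).1 hm)⟩
      · exact ⟨b, hb1, hb⟩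
    · exact ⟨a, ha, ha2⟩
  by_cases hv3 : v ∈ H3
  swap
  · exact ⟨v, hv1, hv2, hv3⟩
  obtain ⟨w, hw⟩ := exists_notMem h3
  rcases h with ⟨t, ht0, ht1⟩ | hdim
  · by_contra hne
    push Not at hne
    have key : ∀ c : F, w + c • v ∈ H1 ∨ w + c • v ∈ H2 := fun c => by
      by_contra hc
      rw [not_or] at hc
      exact hw ((add_mem_cancel_right (H3.smul_mem c hv3)).1 (hne _ hc.1 hc.2))
    have uniq : ∀ H : Submodule F V, v ∉ H → ∀ c d : F, w + c • v ∈ H → w + d • v ∈ H → c = d := by
      intro H hH c d hc hd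
      by_contra hcd
      apply hH
      have := H.smul_mem (c - d)⁻¹ (sub_mem hc hd)
      rwa [add_sub_add_left_eq_sub, ← sub_smul, smul_smul, inv_mul_cancel₀ (sub_ne_zero.2 hcd), one_smul] at this
    rcases key 0 with a | a <;> rcases key 1 with b | b <;> rcases key t with c | c
    all_goals first
      | exact zero_ne_one (uniq H1 hv1 0 1 a b)
      | exact zero_ne_one (uniq H2 hv2 0 1 a b)
      | exact ht0 (uniq H1 hv1 t 0 c a)
      | exact ht0 (uniq H2 hv2 t 0 c a)
      | exact ht1 (uniq H1 hv1 t 1 c b)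
      | exact ht1 (uniq H2 hv2 t 1 c b)
  · by_contra hne
    push Not at hne
    have hle : H1 ⊓ H2 ⊔ span F {v} ≤ H3 := by
      refine sup_le (fun h hh => ?_) ((span_singleton_le_iff_mem _ _).2 hv3)
      have := hne (v + h) (fun hm => hv1 ((add_mem_cancel_right hh.1).1 hm))
        (fun hm => hv2 ((add_mem_cancel_right hh.2).1 hm))
      exact (add_mem_cancel_left hv3).1 this
    have e1 := Submodule.finrank_sup_add_finrank_inf_eq H1 H2
    have e2 := Submodule.finrank_le (H1 ⊔ H2)
    have e3 := Submodule.finrank_mono hle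
    rw [finrank_sup_singleton (fun hm : v ∈ H1 ⊓ H2 => hv1 hm.1)] at e3
    omega

theorem exists_ne_zero_one [Fintype F] (h : 3 ≤ Fintype.card F) : ∃ t : F, t ≠ 0 ∧ t ≠ 1 := by
  classical
  by_contra hne
  push Not at hne
  have : (Finset.univ : Finset F) ⊆ {0, 1} := fun x _ => by
    simp only [Finset.mem_insert, Finset.mem_singleton]
    exact (eq_or_ne x 0).imp id (hne x)
  have := Finset.card_le_card this
  have := Finset.card_le_two (a := (0 : F)) (b := 1)
  rw [Finset.card_univ] at *
  omega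

theorem finrank_comap_span_le (N : End F V) (X : V) :
    finrank F (Submodule.comap N (span F {X})) + finrank F (LinearMap.range N) ≤ finrank F V + 1 := by
  have h1 := LinearMap.finrank_range_add_finrank_ker (N.comp (Submodule.comap N (span F {X})).subtype)
  have h2 : finrank F (LinearMap.range (N.comp (Submodule.comap N (span F {X})).subtype)) ≤ 1 := by
    refine (Submodule.finrank_mono (t := span F {X}) ?_).trans ((finrank_span_le_card _).trans (by simp))
    rintro _ ⟨z, rfl⟩
    exact z.2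
  have h3 : finrank F (LinearMap.ker (N.comp (Submodule.comap N (span F {X})).subtype)) ≤
      finrank F (LinearMap.ker N) := by
    rw [LinearMap.ker_comp, ← Submodule.finrank_map_subtype_eq]
    exact Submodule.finrank_mono (Submodule.map_comap_le _ _)
  have h4 := LinearMap.finrank_range_add_finrank_ker N
  omega

/-- The vector for the step. -/
theorem exists_vec [Fintype F] (g : End F V) (hd : LinearMap.det g = 1)
    (hns : ∀ a : F, g ≠ a • LinearMap.id) (h3 : 3 ≤ finrank F V)
    (hr : (if Fintype.card F = 2 then 3 else 2) ≤ finrank F (LinearMap.range (g - LinearMap.id)))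
    (X : V) (Y : Dual F V) (hY : Y ≠ 0) :
    ∃ v, Y v ≠ 0 ∧ g v - v ∉ span F {X} ∧ (∀ a : F, g v ≠ a • v) ∧
      (finrank F (LinearMap.range (g - LinearMap.id)) < finrank F V → v ∉ LinearMap.range (g - LinearMap.id)) ∧
      (Fintype.card F = 2 → finrank F (LinearMap.range (g - LinearMap.id)) = 3 → 5 ≤ finrank F V →
        v ∉ LinearMap.range (g - LinearMap.id) ⊔ span F {X} ∧
          v ∉ LinearMap.ker (g - LinearMap.id) ⊔ span F {X}) := by
  classical
  set N := g - LinearMap.id with hN
  set r := finrank F (LinearMap.range N) with hr'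
  set n := finrank F V with hn
  have hNa : ∀ z, N z = g z - z := fun z => rfl
  set T := Submodule.comap N (span F {X}) with hT
  have hTd : finrank F T + r ≤ n + 1 := finrank_comap_span_le N X
  have hr2 : 2 ≤ r := le_trans (by split_ifs <;> omega) hr
  have hq : 2 ≤ Fintype.card F := Fintype.one_lt_card
  have hH : LinearMap.ker Y ≠ ⊤ := fun h => hY (LinearMap.ker_eq_top.1 h)
  have hrn : r ≤ n := Submodule.finrank_le _
  have noneig : ∀ v, v ∉ LinearMap.range N → v ∉ T → ∀ a : F, g v ≠ a • v := by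
    intro v hv1 hv2 a ha
    rcases eq_or_ne a 1 with rfl | ha1
    · rw [one_smul] at ha
      exact hv2 (by rw [hT, Submodule.mem_comap, hNa, ha, sub_self]; exact zero_mem _)
    · refine hv1 ⟨(a - 1)⁻¹ • v, ?_⟩
      rw [map_smul, hNa, ha, show a • v - v = (a - 1) • v by rw [sub_smul, one_smul], smul_smul,
        inv_mul_cancel₀ (sub_ne_zero.2 ha1), one_smul]
  rcases lt_or_eq_of_le hrn with hlt | heq
  · have himtop : LinearMap.range N ≠ ⊤ := ne_top_of_finrank_lt hlt
    by_cases hspec : Fintype.card F = 2 ∧ r = 3 ∧ 5 ≤ n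
    · obtain ⟨hq2, hr3, hn5⟩ := hspec
      have hK := finrank_sup_singleton_le (LinearMap.ker N) X
      have hker := LinearMap.finrank_range_add_finrank_ker N
      by_cases hX : X ∈ LinearMap.range N
      · have e1 := Submodule.finrank_sup_add_finrank_inf_eq T (LinearMap.ker N ⊔ span F {X})
        have e2 : finrank F (LinearMap.ker N) ≤ finrank F ↥(T ⊓ (LinearMap.ker N ⊔ span F {X})) :=
          Submodule.finrank_mono (le_inf (fun z hz => by
            rw [hT, Submodule.mem_comap, LinearMap.mem_ker.1 hz]; exact zero_mem _) le_sup_left)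
        obtain ⟨v, a, b, c⟩ := exists_not_mem_three hH
          (ne_top_of_finrank_lt (H := T ⊔ (LinearMap.ker N ⊔ span F {X})) (by omega)) himtop
          (Or.inr (by omega))
        have b1 : v ∉ T := fun h => b (mem_sup_left h)
        refine ⟨v, a, fun h => b1 h, noneig v c b1, fun _ => c, fun _ _ _ => ⟨?_, fun h => b (mem_sup_right h)⟩⟩
        rwa [sup_eq_left.2 ((span_singleton_le_iff_mem _ _).2 hX)]
      · have hTle : T ≤ LinearMap.ker N ⊔ span F {X} := fun z hz => by
          obtain ⟨c, hc⟩ := Submodule.mem_span_singleton.1 hz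
          rcases eq_or_ne c 0 with rfl | hc0
          · exact mem_sup_left (LinearMap.mem_ker.2 (by rw [← hc, zero_smul]))
          · exact absurd ⟨c⁻¹ • z, by rw [map_smul, ← hc, smul_smul, inv_mul_cancel₀ hc0, one_smul]⟩ hX
        have e1 := finrank_sup_singleton_le (LinearMap.range N) X
        obtain ⟨v, a, b, c⟩ := exists_not_mem_three hH
          (ne_top_of_finrank_lt (H := LinearMap.range N ⊔ span F {X}) (by omega))
          (ne_top_of_finrank_lt (H := LinearMap.ker N ⊔ span F {X}) (by omega)) (Or.inr (by omega))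
        exact ⟨v, a, fun h => c (hTle h), noneig v (fun h => b (mem_sup_left h)) (fun h => c (hTle h)),
          fun _ h => b (mem_sup_left h), fun _ _ _ => ⟨b, c⟩⟩
    · obtain ⟨v, a, b, c⟩ := exists_not_mem_three hH himtop (ne_top_of_finrank_lt (H := T) (by omega))
        (by
          rcases eq_or_ne (Fintype.card F) 2 with hq2 | hq2
          · refine Or.inr ?_
            rw [if_pos hq2] at hr
            omega
          · exact Or.inl (exists_ne_zero_one (by omega)))
      exact ⟨v, a, fun h => c h, noneig v b c, fun _ => b, fun h1 h2 h3 => absurd ⟨h1, h2, h3⟩ hspec⟩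
  · have hinjN : ∀ z, g z = z → z = 0 := by
      intro z hz
      have hk : LinearMap.ker N = ⊥ := by
        rw [← Submodule.finrank_eq_zero]
        have := LinearMap.finrank_range_add_finrank_ker N
        omega
      exact (LinearMap.ker_eq_bot'.1 hk) z (by rw [hNa, hz, sub_self])
    have hginj : ∀ z, g z = 0 → z = 0 :=
      LinearMap.ker_eq_bot'.1 (by
        by_contra hk
        have := LinearMap.bot_lt_ker_of_det_eq_zero (f := g)
        exact one_ne_zero (hd.symm.trans (LinearMap.det_eq_zero_iff_ker_ne_bot.2 hk)))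
    have hT1 : finrank F T + 2 ≤ n := by omega
    obtain ⟨v0, hv0⟩ : ∃ v, v ∉ LinearMap.ker Y ∧ v ∉ T :=
      let ⟨v, a, _, c⟩ := exists_not_mem_three hH hH (ne_top_of_finrank_lt (H := T) (by omega)) (Or.inr hT1)
      ⟨v, a, c⟩
    obtain ⟨hv0Y, hv0T⟩ := hv0
    suffices ∃ v, v ∉ LinearMap.ker Y ∧ v ∉ T ∧ ∀ a : F, g v ≠ a • v by
      obtain ⟨v, a, b, c⟩ := this
      exact ⟨v, a, fun h => b h, c, fun h => absurd h (by omega), fun _ _ _ => by omega⟩
    by_cases he : ∀ a : F, g v0 ≠ a • v0
    · exact ⟨v0, hv0Y, hv0T, he⟩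
    push Not at he
    obtain ⟨γ, hγ⟩ := he
    have hE : LinearMap.ker (g - γ • LinearMap.id) ≠ ⊤ := fun h => hns γ (sub_eq_zero.1 (LinearMap.ker_eq_top.1 h))
    obtain ⟨w, hwY, hwE, hwT⟩ := exists_not_mem_three hH hE (ne_top_of_finrank_lt (H := T) (by omega)) (Or.inr hT1)
    by_cases he' : ∀ a : F, g w ≠ a • w
    · exact ⟨w, hwY, hwT, he'⟩
    push Not at he'
    obtain ⟨δ, hδ⟩ := he'
    have hne0 : ∀ (z : V) (c : F), z ∉ T → g z = c • z → c ≠ 0 ∧ c ≠ 1 := by
      intro z c hz hc
      have hz0 : z ≠ 0 := fun h => hz (h ▸ zero_mem _)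
      exact ⟨fun h => hz0 (hginj z (by rw [hc, h, zero_smul])),
        fun h => hz0 (hinjN z (by rw [hc, h, one_smul]))⟩
    have hγδ : δ ≠ γ := fun h => hwE (LinearMap.mem_ker.2 (by simp [hδ, h]))
    obtain ⟨hγ0, hγ1⟩ := hne0 v0 γ hv0T hγ
    obtain ⟨hδ0, hδ1⟩ := hne0 w δ hwT hδ
    have hq4 : 4 ≤ Fintype.card F := by
      have : ({0, 1, γ, δ} : Finset F).card = 4 := by
        rw [Finset.card_insert_of_notMem (by simp [Ne.symm hγ0, Ne.symm hδ0]),
          Finset.card_insert_of_notMem (by simp [Ne.symm hγ1, Ne.symm hδ1]), Finset.card_pair (Ne.symm hγδ)]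
      exact this ▸ Finset.card_le_univ _
    have uniq : ∀ H : Submodule F V, v0 ∉ H → ∀ c d : F, w + c • v0 ∈ H → w + d • v0 ∈ H → c = d := by
      intro H hH c d hc hd
      by_contra hcd
      apply hH
      have := H.smul_mem (c - d)⁻¹ (sub_mem hc hd)
      rwa [add_sub_add_left_eq_sub, ← sub_smul, smul_smul, inv_mul_cancel₀ (sub_ne_zero.2 hcd), one_smul] at this
    obtain ⟨c, hc⟩ : ∃ c : F, c ≠ 0 ∧ w + c • v0 ∉ LinearMap.ker Y ∧ w + c • v0 ∉ T := by
      by_contra hne
      push Not at hne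
      have h1 : ∀ H : Submodule F V, v0 ∉ H → (Finset.univ.filter fun c : F => w + c • v0 ∈ H).card ≤ 1 :=
        fun H hH => Finset.card_le_one.2 fun a ha b hb =>
          uniq H hH a b (Finset.mem_filter.1 ha).2 (Finset.mem_filter.1 hb).2
      have hsub : (Finset.univ : Finset F) ⊆ {0} ∪ (Finset.univ.filter fun c : F => w + c • v0 ∈ LinearMap.ker Y) ∪
          (Finset.univ.filter fun c : F => w + c • v0 ∈ T) := fun c _ => by
        by_cases h0 : c = 0
        · simp [h0]
        · by_cases hy : w + c • v0 ∈ LinearMap.ker Y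
          · exact Finset.mem_union_left _ (Finset.mem_union_right _ (Finset.mem_filter.2 ⟨Finset.mem_univ c, hy⟩))
          · simp [hne c h0 hy]
      have := Finset.card_le_card hsub
      have := Finset.card_union_le ({0} ∪ (Finset.univ.filter fun c : F => w + c • v0 ∈ LinearMap.ker Y))
          (Finset.univ.filter fun c : F => w + c • v0 ∈ T)
      have := Finset.card_union_le ({0} : Finset F) (Finset.univ.filter fun c : F => w + c • v0 ∈ LinearMap.ker Y)
      have := h1 _ hv0Y
      have := h1 _ hv0T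
      rw [Finset.card_univ, Finset.card_singleton] at *
      omega
    refine ⟨w + c • v0, hc.2.1, hc.2.2, fun a ha => ?_⟩
    have hv00 : v0 ≠ 0 := fun h => hv0T (h ▸ zero_mem _)
    have h1 : (δ - a) • w = (c * (a - γ)) • v0 := by
      rw [map_add, map_smul, hγ, hδ, smul_add] at ha
      rw [sub_smul, mul_sub, sub_smul, mul_comm c a, mul_smul, mul_smul, sub_eq_sub_iff_add_eq_add]
      rw [ha]; abel
    rcases eq_or_ne δ a with rfl | hda
    · rw [sub_self, zero_smul, eq_comm, smul_eq_zero] at h1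
      exact h1.elim (fun h => (mul_ne_zero hc.1 (sub_ne_zero.2 hγδ)) h) hv00
    · apply hwE
      rw [← inv_smul_smul₀ (sub_ne_zero.2 hda) w, h1]
      exact Submodule.smul_mem _ _ (Submodule.smul_mem _ _ (LinearMap.mem_ker.2 (by simp [hγ])))

end Cfsg.Agent.Commutator
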