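import Cfsg.Agent.Lib.SimTranspose.Basic

/-!
Writing `g` as a quotient `x * y⁻¹` of two similar operators, built up one dimension at a time: the
invariant, the inductive step, and the passage to a commutator in `SL`.
-/

set_option autoImplicit false

open Polynomial Module

namespace Cfsg.Agent.Commutator

universe u

variable {F : Type u} [Field F] {V : Type u} [AddCommGroup V] [Module F V] [FiniteDimensional F V]

/-- `g * y` is equivalent to the dual of `y`, in a way adapted to the pair `(X, Y)`. -/
def Inv (g : End F V) (X : V) (Y : Dual F V) : Prop :=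
  ∃ (y : End F V) (e : V ≃ₗ[F] Dual F V) (c : F) (w : Dual F V), c ≠ 0 ∧ LinearMap.det y = 1 ∧
    (∀ d : F, d ≠ 0 → ∃ Q : F[X], Q.eval 1 = 1 ∧ LinearMap.det (aeval y Q) = d) ∧
    (∀ x, e (g (y x)) = (e x).comp y) ∧
    e X = c • (Y.comp y) + (w.comp y - w) ∧
    ∀ ψ : Dual F V, ∃ (a : F) (w' : Dual F V), ψ = a • (Y.comp y) + (w'.comp y - w')

section Step

variable (v : V) (φ : Dual F V) (hv : φ v = 1)

/-- The projection onto `ker φ` along `v`. -/
def proj : V →ₗ[F] LinearMap.ker φ :=
  (LinearMap.id - φ.smulRight v).codRestrict _ fun z => by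
    simp [LinearMap.mem_ker, hv]

theorem proj_coe (z : V) : (proj v φ hv z : V) = z - φ z • v := rfl

theorem proj_self : proj v φ hv v = 0 := Subtype.ext (by simp [proj_coe, hv])

theorem proj_ker (w : LinearMap.ker φ) : proj v φ hv (w : V) = w :=
  Subtype.ext (by simp [proj_coe, LinearMap.mem_ker.1 w.2])

theorem decomp (z : V) : z = φ z • v + (proj v φ hv z : V) := by simp [proj_coe]

/-- Block triangular operator with blocks `1` and `y`. -/
def tri (lam : Dual F (LinearMap.ker φ)) (y : End F (LinearMap.ker φ)) : End F V :=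
  (φ + lam.comp (proj v φ hv)).smulRight v + (LinearMap.ker φ).subtype.comp (y.comp (proj v φ hv))

theorem tri_apply (lam : Dual F (LinearMap.ker φ)) (y : End F (LinearMap.ker φ)) (z : V) :
    tri v φ hv lam y z = (φ z + lam (proj v φ hv z)) • v + (y (proj v φ hv z) : V) := rfl

theorem phi_tri (lam : Dual F (LinearMap.ker φ)) (y : End F (LinearMap.ker φ)) (z : V) :
    φ (tri v φ hv lam y z) = φ z + lam (proj v φ hv z) := by
  rw [tri_apply, map_add, map_smul, LinearMap.mem_ker.1 (y (proj v φ hv z)).2, hv]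
  simp

theorem proj_tri (lam : Dual F (LinearMap.ker φ)) (y : End F (LinearMap.ker φ)) (z : V) :
    proj v φ hv (tri v φ hv lam y z) = y (proj v φ hv z) := by
  rw [tri_apply, map_add, map_smul, proj_self, proj_ker, smul_zero, zero_add]

theorem det_tri (lam : Dual F (LinearMap.ker φ)) (y : End F (LinearMap.ker φ)) :
    LinearMap.det (tri v φ hv lam y) = LinearMap.det y := by
  let E : (F × LinearMap.ker φ) ≃ₗ[F] V :=
    { toFun := fun p => p.1 • v + (p.2 : V)
      map_add' := fun p q => by simp [add_smul]; abel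
      map_smul' := fun a p => by simp [smul_add, mul_smul]
      invFun := fun z => (φ z, proj v φ hv z)
      left_inv := fun p => by
        ext
        · simp [hv, LinearMap.mem_ker.1 p.2.2]
        · simp [proj_coe, hv, LinearMap.mem_ker.1 p.2.2]
      right_inv := fun z => (decomp v φ hv z).symm }
  have : tri v φ hv lam y = (E.toLinearMap ∘ₗ ((LinearMap.id : End F F).prodMap y) ∘ₗ E.symm.toLinearMap) *
      LinearMap.transvection (lam.comp (proj v φ hv)) v := by
    refine LinearMap.ext fun z => ?_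
    rw [Module.End.mul_apply, LinearMap.transvection.apply, tri_apply]
    simp [E, map_add, map_smul, proj_self, hv, add_smul]
    abel
  rw [this, map_mul, LinearMap.det_conj, LinearMap.det_prodMap, LinearMap.det_id, one_mul,
    LinearMap.transvection.det, LinearMap.comp_apply, proj_self, map_zero, add_zero, mul_one]

theorem aeval_tri (lam : Dual F (LinearMap.ker φ)) (y : End F (LinearMap.ker φ)) (Q : F[X]) :
    ∃ m : Dual F (LinearMap.ker φ), ∀ z, aeval (tri v φ hv lam y) Q z =
      (Q.eval 1 * φ z + m (proj v φ hv z)) • v + (aeval y Q (proj v φ hv z) : V) := by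
  induction Q using Polynomial.induction_on with
  | C a =>
    refine ⟨0, fun z => ?_⟩
    conv_lhs => rw [decomp v φ hv z]
    simp [mul_smul]
  | add P R hP hR =>
    obtain ⟨mP, hP⟩ := hP
    obtain ⟨mR, hR⟩ := hR
    refine ⟨mP + mR, fun z => ?_⟩
    simp only [map_add, LinearMap.add_apply, hP, hR, eval_add, Submodule.coe_add, add_smul, add_mul]
    abel
  | monomial j a hj =>
    obtain ⟨m, hm⟩ := hj
    refine ⟨(C a * X ^ j).eval 1 • lam + m.comp y, fun z => ?_⟩
    rw [pow_succ, ← mul_assoc, map_mul, aeval_X, Module.End.mul_apply, hm, phi_tri, proj_tri]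
    simp [mul_add, add_assoc]

/-- The Schur complement of `g` on `ker φ`. -/
def schur (g : End F V) : End F (LinearMap.ker φ) :=
  (proj v φ hv).comp (g.comp (LinearMap.ker φ).subtype) -
    ((φ.comp g).comp (LinearMap.ker φ).subtype).smulRight (proj v φ hv (g v))

theorem det_schur (g : End F V) (hgv : φ (g v) = 1) :
    LinearMap.det (schur v φ hv g) = LinearMap.det g := by
  set Y1 := (φ.comp g).comp (LinearMap.ker φ).subtype
  have : g = LinearMap.transvection φ (g v - v) * tri v φ hv Y1 (schur v φ hv g) := by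
    refine LinearMap.ext fun z => ?_
    rw [Module.End.mul_apply, LinearMap.transvection.apply, phi_tri, tri_apply]
    conv_lhs => rw [decomp v φ hv z, map_add, map_smul]
    simp only [schur, Y1, LinearMap.sub_apply, LinearMap.comp_apply, LinearMap.smulRight_apply,
      Submodule.coe_subtype, Submodule.coe_sub, Submodule.coe_smul, proj_coe, hgv, one_smul, add_smul, smul_sub]
    abel
  conv_rhs => rw [this]
  rw [map_mul, LinearMap.transvection.det, det_tri, map_sub, hgv, hv, sub_self, add_zero, one_mul]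

end Step

/-- The inductive step. -/
theorem Inv.step (g : End F V) (X : V) (Y : Dual F V) (v : V) (φ : Dual F V) (hv : φ v = 1)
    (hgv : φ (g v) = 1) (hX : φ X ≠ 0) (hY : Y v ≠ 0)
    (h : Inv (F := F) (schur v φ hv g)
      (proj v φ hv (g v)) ((φ.comp g).comp (LinearMap.ker φ).subtype)) :
    Inv g X Y := by
  set Y1 := (φ.comp g).comp (LinearMap.ker φ).subtype
  set X1 := proj v φ hv (g v)
  set g1 : End F (LinearMap.ker φ) := schur v φ hv g with hg1
  set P := proj v φ hv with hP
  obtain ⟨y, e, c, w, hc, hy, hQ, he, hX1, hfull⟩ := h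
  let y' := tri v φ hv (-(Y1.comp y)) y
  let T : V → Dual F V := fun z => (-c * φ z) • φ + ((φ z • w + e (P z)).comp P)
  let e0 : V →ₗ[F] Dual F V :=
    { toFun := T
      map_add' := fun a b => by
        refine LinearMap.ext fun t => ?_
        simp [T]; ring
      map_smul' := fun a b => by
        refine LinearMap.ext fun t => ?_
        simp [T]; ring }
  have he0 : ∀ z t, e0 z t = -c * φ z * φ t + (φ z * w (P t) + e (P z) (P t)) := fun z t => by
    simp [e0, T]
  have hinj : Function.Injective e0 := by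
    rw [injective_iff_map_eq_zero]
    intro z hz
    have h1 : φ z = 0 := by
      have := LinearMap.congr_fun hz v
      rw [he0] at this
      simpa [P, proj_self, hv, hc] using this
    have h2 : e (P z) = 0 := by
      refine LinearMap.ext fun t => ?_
      have := LinearMap.congr_fun hz (t : V)
      rw [he0] at this
      simpa [P, proj_ker, h1, LinearMap.mem_ker.1 t.2] using this
    rw [decomp v φ hv z, h1, e.map_eq_zero_iff.1 h2]
    simp
  let e' : V ≃ₗ[F] Dual F V := LinearMap.linearEquivOfInjective e0 hinj Subspace.dual_finrank_eq.symm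
  have he' : ∀ z t, e' z t = -c * φ z * φ t + (φ z * w (P t) + e (P z) (P t)) := fun z t => he0 z t
  have hgw : ∀ r : LinearMap.ker φ, g (r : V) = Y1 r • g v + (g1 r : V) := fun r => by
    simp only [hg1, schur, Y1, X1, LinearMap.sub_apply, LinearMap.comp_apply, LinearMap.smulRight_apply,
      Submodule.coe_subtype, Submodule.coe_sub, Submodule.coe_smul, proj_coe, hgv, one_smul, smul_sub]
    abel
  have hgy : ∀ z, g (y' z) = φ z • g v + (g1 (y (P z)) : V) := by
    intro z
    rw [show y' z = (φ z + (-(Y1.comp y)) (P z)) • v + (y (P z) : V) from rfl, map_add, map_smul, hgw]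
    simp only [LinearMap.neg_apply, LinearMap.comp_apply, add_smul, neg_smul]
    abel
  have hYy' : ∀ t, Y (y' t) = (φ t - Y1 (y (P t))) * Y v + Y (y (P t) : V) := fun t => by
    rw [show y' t = (φ t + (-(Y1.comp y)) (P t)) • v + (y (P t) : V) from rfl, map_add, map_smul]
    simp [sub_eq_add_neg]
  have key : ∀ ψ : Dual F V, ∃ (w' : Dual F V), ψ = (ψ v / Y v) • (Y.comp y') + (w'.comp y' - w') := by
    intro ψ
    set D : Dual F V := ψ - (ψ v / Y v) • (Y.comp y') with hD
    have hDv : D v = 0 := by
      simp [D, hYy', P, proj_self, hv, hY]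
    obtain ⟨a, w1, ha⟩ := hfull (D.comp (LinearMap.ker φ).subtype)
    refine ⟨(-a) • φ + w1.comp P, ?_⟩
    rw [← sub_eq_iff_eq_add', ← hD]
    refine LinearMap.ext fun t => ?_
    have h1 := LinearMap.congr_fun ha (P t)
    simp only [LinearMap.comp_apply, Submodule.coe_subtype, LinearMap.add_apply, LinearMap.smul_apply,
      LinearMap.sub_apply, smul_eq_mul] at h1
    have h2 : D t = D (P t : V) := by
      conv_lhs => rw [decomp v φ hv t]
      rw [map_add, map_smul, hDv, smul_zero, zero_add]
    rw [h2, h1]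
    simp only [LinearMap.sub_apply, LinearMap.comp_apply, LinearMap.add_apply, LinearMap.smul_apply,
      smul_eq_mul, y', P, phi_tri, proj_tri, LinearMap.neg_apply]
    ring
  obtain ⟨w', hw'⟩ := key (e' X)
  refine ⟨y', e', e' X v / Y v, w', ?_, ?_, ?_, ?_, hw', fun ψ => ?_⟩
  · refine div_ne_zero ?_ hY
    rw [he']
    simp [P, proj_self, hv, hc, hX]
  · rw [det_tri, hy]
  · intro d hd
    obtain ⟨Q, hQ1, hQd⟩ := hQ d hd
    obtain ⟨m, hm⟩ := aeval_tri v φ hv (-(Y1.comp y)) y Q
    refine ⟨Q, hQ1, ?_⟩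
    rw [show aeval y' Q = tri v φ hv m (aeval y Q) from LinearMap.ext fun z => by
      rw [hm, tri_apply, hQ1, one_mul], det_tri, hQd]
  · intro z
    refine LinearMap.ext fun t => ?_
    have h1 : φ (g (y' z)) = φ z := by
      rw [hgy, map_add, map_smul, hgv, LinearMap.mem_ker.1 (g1 _).2]; simp
    have h2 : P (g (y' z)) = φ z • X1 + g1 (y (P z)) := by
      rw [hgy, map_add, map_smul, proj_ker]
    rw [LinearMap.comp_apply, he', he', h1, h2, map_add, map_smul, he, hX1]
    simp only [LinearMap.add_apply, LinearMap.smul_apply, LinearMap.sub_apply, LinearMap.comp_apply,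
      smul_eq_mul, y', P, phi_tri, proj_tri, LinearMap.neg_apply]
    ring
  · obtain ⟨w', hw'⟩ := key ψ
    exact ⟨_, w', hw'⟩

/-- From the invariant to a commutator in `SL`. -/
theorem exists_commutator_of_inv {n : ℕ} (b : Basis (Fin n) F V) (g : Matrix.SpecialLinearGroup (Fin n) F)
    (X : V) (Y : Dual F V)
    (h : Inv (Matrix.toLin b b (g : Matrix (Fin n) (Fin n) F)) X Y) :
    ∃ a b : Matrix.SpecialLinearGroup (Fin n) F, g = a * b * a⁻¹ * b⁻¹ := by
  obtain ⟨y, e, c, w, -, hy, hQ, he, -, -⟩ := h
  set ym := LinearMap.toMatrix b b y with hym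
  set E := LinearMap.toMatrix b b.dualBasis e.toLinearMap with hE
  have h1 : E * ((g : Matrix (Fin n) (Fin n) F) * ym) = ym.transpose * E := by
    have : e.toLinearMap ∘ₗ (Matrix.toLin b b (g : Matrix (Fin n) (Fin n) F) ∘ₗ y) = y.dualMap ∘ₗ e.toLinearMap :=
      LinearMap.ext fun x => he x
    have := congrArg (LinearMap.toMatrix b b.dualBasis) this
    rw [LinearMap.toMatrix_comp b b b.dualBasis, LinearMap.toMatrix_comp b b b,
      LinearMap.toMatrix_comp b b.dualBasis b.dualBasis] at this
    rw [LinearMap.dualMap_def, LinearMap.toMatrix_transpose] at this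
    simpa [hym, hE] using this
  obtain ⟨u, hu⟩ := SimTranspose.isConj_transpose ym
  have hu' : (u : Matrix (Fin n) (Fin n) F) * ym = ym.transpose * u := hu
  have hE0 : E.det ≠ 0 :=
    (LinearEquiv.isUnit_det e b b.dualBasis).ne_zero
  set h0 := ((u⁻¹ : (Matrix (Fin n) (Fin n) F)ˣ) : Matrix (Fin n) (Fin n) F) * E
  have hh : h0 * ((g : Matrix (Fin n) (Fin n) F) * ym) = ym * h0 := by
    rw [show h0 * ((g : Matrix (Fin n) (Fin n) F) * ym) =
      ((u⁻¹ : (Matrix (Fin n) (Fin n) F)ˣ) : Matrix (Fin n) (Fin n) F) * (E * ((g : Matrix _ _ F) * ym)) from mul_assoc _ _ _, h1]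
    rw [← mul_assoc, show ((u⁻¹ : (Matrix (Fin n) (Fin n) F)ˣ) : Matrix (Fin n) (Fin n) F) * ym.transpose =
      ym * ((u⁻¹ : (Matrix (Fin n) (Fin n) F)ˣ) : Matrix (Fin n) (Fin n) F) by
        rw [Units.inv_mul_eq_iff_eq_mul, ← mul_assoc, hu', mul_assoc, Units.mul_inv, mul_one], mul_assoc]
  have hd : h0.det ≠ 0 := by
    rw [Matrix.det_mul]
    exact mul_ne_zero ((Matrix.isUnit_iff_isUnit_det _).1 (Units.isUnit _)).ne_zero hE0
  obtain ⟨Q, -, hQd⟩ := hQ _ (inv_ne_zero hd)
  have hQm : (aeval ym Q).det = h0.det⁻¹ := by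
    rw [← hQd, ← LinearMap.det_toMatrix b, hym]
    congr 1
    exact aeval_algHom_apply (LinearMap.toMatrixAlgEquiv b).toAlgHom y Q
  let M : Matrix.SpecialLinearGroup (Fin n) F :=
    ⟨aeval ym Q * h0, by rw [Matrix.det_mul, hQm, inv_mul_cancel₀ hd]⟩
  let ys : Matrix.SpecialLinearGroup (Fin n) F := ⟨ym, by rw [hym, LinearMap.det_toMatrix, hy]⟩
  have hM : M * (g * ys) = ys * M := Subtype.ext <| by
    show aeval ym Q * h0 * ((g : Matrix (Fin n) (Fin n) F) * ym) = ym * (aeval ym Q * h0)
    rw [mul_assoc, hh, ← mul_assoc, ← mul_assoc,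
      show aeval ym Q * ym = ym * aeval ym Q by
        have := congrArg (aeval ym) (mul_comm Q Polynomial.X)
        simpa using this]
    simp only [h0, mul_assoc]
  exact ⟨M⁻¹, ys, by rw [inv_inv, mul_assoc M⁻¹ ys M, ← hM]; group⟩

end Cfsg.Agent.Commutator
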