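import Cfsg.Agent.Lib.Commutator.Base

/-!
The base of the commutator induction in dimension three over two or three elements.
-/

set_option autoImplicit false

open Polynomial Module

namespace Cfsg.Agent.Commutator

section Cert

variable {K : Type*} [CommRing K]

/-- Both `y` and `M * y` have characteristic polynomial `X³ - X - 1`. -/
def Good (M y : Matrix (Fin 3) (Fin 3) K) : Prop :=
  (y.trace = 0 ∧ y 0 0 * y 1 1 - y 0 1 * y 1 0 + y 0 0 * y 2 2 - y 0 2 * y 2 0 +
      y 1 1 * y 2 2 - y 1 2 * y 2 1 = -1 ∧ y.det = 1) ∧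
    (M * y).trace = 0 ∧ (M * y) 0 0 * (M * y) 1 1 - (M * y) 0 1 * (M * y) 1 0 +
      (M * y) 0 0 * (M * y) 2 2 - (M * y) 0 2 * (M * y) 2 0 +
      (M * y) 1 1 * (M * y) 2 2 - (M * y) 1 2 * (M * y) 2 1 = -1 ∧ (M * y).det = 1

instance [DecidableEq K] (M y : Matrix (Fin 3) (Fin 3) K) : Decidable (Good M y) := by
  unfold Good; infer_instance

theorem Good.map {L : Type*} [CommRing L] (f : K →+* L) {M y : Matrix (Fin 3) (Fin 3) K} (h : Good M y) :
    Good (f.mapMatrix M) (f.mapMatrix y) := by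
  obtain ⟨⟨h1, h2, h3⟩, h4, h5, h6⟩ := h
  refine ⟨⟨?_, ?_, ?_⟩, ?_, ?_, ?_⟩
  · simpa [Matrix.trace_fin_three] using congrArg f h1
  · simpa using congrArg f h2
  · rw [← RingHom.map_det, h3, map_one]
  · rw [← map_mul]
    simpa [Matrix.trace_fin_three, -Matrix.map_mul] using congrArg f h4
  · rw [← map_mul]
    simpa [-Matrix.map_mul] using congrArg f h5
  · rw [← map_mul, ← RingHom.map_det, h6, map_one]

theorem charpoly_three (A : Matrix (Fin 3) (Fin 3) K) :
    A.charpoly = Polynomial.X ^ 3 - C A.trace * Polynomial.X ^ 2 +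
      C (A 0 0 * A 1 1 - A 0 1 * A 1 0 + A 0 0 * A 2 2 - A 0 2 * A 2 0 + A 1 1 * A 2 2 - A 1 2 * A 2 1) *
        Polynomial.X - C A.det := by
  simp [Matrix.charpoly, Matrix.charmatrix, Matrix.det_fin_three, Matrix.trace_fin_three]
  ring

end Cert

/-- The two facts checked by computation. -/
def Cert (K : Type*) [CommRing K] : Prop :=
  (∀ b c : K, ∃ y, Good !![0, 0, 1; 1, 0, b; 0, 1, c] y) ∧
  (∀ a b d e f : K, -(a * f) = 1 → (f = 1 ∧ a + b = 1 ∧ d + e = 0) ∨
    ∃ y, Good !![0, a, d; 1, b, e; 0, 0, f] y) ∧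
  (∀ d : K, d ≠ 0 → d = 1 ∨ d = -1 ∧ (-2 : K) = 1) ∧ ∀ x : K, x ^ 3 - x - 1 ≠ 0

theorem Cert.map {K L : Type*} [CommRing K] [CommRing L] (f : K ≃+* L) (h : Cert K) : Cert L := by
  obtain ⟨h1, h2, h3, h4⟩ := h
  refine ⟨fun b c => ?_, fun a b d e g hag => ?_, fun d hd => ?_, fun x hx => ?_⟩
  · obtain ⟨b, rfl⟩ := f.surjective b
    obtain ⟨c, rfl⟩ := f.surjective c
    obtain ⟨y, hy⟩ := h1 b c
    refine ⟨f.toRingHom.mapMatrix y, ?_⟩
    convert hy.map f.toRingHom using 1
    ext i j
    fin_cases i <;> fin_cases j <;> simp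
  · obtain ⟨a, rfl⟩ := f.surjective a
    obtain ⟨b, rfl⟩ := f.surjective b
    obtain ⟨d, rfl⟩ := f.surjective d
    obtain ⟨e, rfl⟩ := f.surjective e
    obtain ⟨g, rfl⟩ := f.surjective g
    rcases h2 a b d e g (f.injective (by simpa using hag)) with ⟨x1, x2, x3⟩ | ⟨y, hy⟩
    · exact Or.inl ⟨by rw [x1, map_one], by rw [← map_add, x2, map_one], by rw [← map_add, x3, map_zero]⟩
    · refine Or.inr ⟨f.toRingHom.mapMatrix y, ?_⟩
      convert hy.map f.toRingHom using 1
      ext i j
      fin_cases i <;> fin_cases j <;> simp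
  · obtain ⟨d, rfl⟩ := f.surjective d
    rcases h3 d (fun h => hd (by rw [h, map_zero])) with h | ⟨h, h'⟩
    · exact Or.inl (by rw [h, map_one])
    · exact Or.inr ⟨by rw [h, map_neg, map_one], by
        have := congrArg f h'
        simpa [map_ofNat] using this⟩
  · obtain ⟨x, rfl⟩ := f.surjective x
    exact h4 x (f.injective (by simpa using hx))

def ysTwo : List (Matrix (Fin 3) (Fin 3) (ZMod 2)) :=
  [!![0, 1, 0; 0, 1, 1; 1, 0, 1], !![0, 1, 1; 1, 1, 0; 1, 1, 1], !![0, 0, 1; 1, 0, 1; 0, 1, 0],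
    !![0, 0, 1; 1, 1, 0; 0, 1, 1], !![1, 0, 1; 1, 1, 0; 0, 1, 0]]

def ysThree : List (Matrix (Fin 3) (Fin 3) (ZMod 3)) :=
  [!![0, 1, 0; 0, 1, 1; 1, 0, 2], !![0, 1, 0; 0, 1, 2; 2, 0, 2], !![0, 1, 1; 0, 0, 2; 2, 1, 0],
    !![0, 1, 1; 1, 1, 1; 2, 0, 2], !![1, 1, 1; 1, 2, 2; 1, 2, 0], !![2, 0, 2; 2, 1, 2; 1, 2, 0],
    !![0, 1, 2; 0, 0, 1; 1, 2, 0], !![2, 2, 1; 0, 0, 1; 1, 2, 1], !![0, 1, 1; 1, 2, 1; 0, 2, 1],
    !![1, 1, 0; 2, 1, 2; 2, 1, 1], !![0, 0, 2; 2, 0, 0; 2, 1, 0], !![0, 0, 2; 0, 2, 2; 2, 1, 1]]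

theorem cert_two : Cert (ZMod 2) := by
  refine ⟨fun b c => ?_, fun a b d e f h => ?_, by decide +kernel, by decide +kernel⟩
  · have : ∀ b c : ZMod 2, ∃ y ∈ ysTwo, Good !![0, 0, 1; 1, 0, b; 0, 1, c] y := by decide +kernel
    obtain ⟨y, -, hy⟩ := this b c
    exact ⟨y, hy⟩
  · have : ∀ a b d e f : ZMod 2, -(a * f) = 1 → (f = 1 ∧ a + b = 1 ∧ d + e = 0) ∨
        ∃ y ∈ ysTwo, Good !![0, a, d; 1, b, e; 0, 0, f] y := by decide +kernel
    rcases this a b d e f h with h' | ⟨y, -, hy⟩
    exacts [Or.inl h', Or.inr ⟨y, hy⟩]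

theorem cert_three : Cert (ZMod 3) := by
  refine ⟨fun b c => ?_, fun a b d e f h => ?_, by decide +kernel, by decide +kernel⟩
  · have : ∀ b c : ZMod 3, ∃ y ∈ ysThree, Good !![0, 0, 1; 1, 0, b; 0, 1, c] y := by decide +kernel
    obtain ⟨y, -, hy⟩ := this b c
    exact ⟨y, hy⟩
  · have : ∀ a b d e f : ZMod 3, -(a * f) = 1 → (f = 1 ∧ a + b = 1 ∧ d + e = 0) ∨
        ∃ y ∈ ysThree, Good !![0, a, d; 1, b, e; 0, 0, f] y := by decide +kernel
    rcases this a b d e f h with h' | ⟨y, -, hy⟩
    exacts [Or.inl h', Or.inr ⟨y, hy⟩]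

universe u

variable {F : Type u} [Field F]

theorem cert_of_card [Fintype F] (hq : Fintype.card F ≤ 3) : Cert F := by
  have h2 : 2 ≤ Fintype.card F := Fintype.one_lt_card
  rcases (show Fintype.card F = 2 ∨ Fintype.card F = 3 by omega) with h | h
  · exact cert_two.map (ZMod.ringEquivOfPrime F Nat.prime_two h)
  · exact cert_three.map (ZMod.ringEquivOfPrime F Nat.prime_three h)

variable {V : Type u} [AddCommGroup V] [Module F V] [FiniteDimensional F V]

/-- Dimension three over two or three elements. -/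
theorem inv_three [Fintype F] (hq : Fintype.card F ≤ 3) (g : End F V) (hn : finrank F V = 3)
    (hd : LinearMap.det g = 1) (hr : 2 ≤ finrank F (LinearMap.range (g - LinearMap.id)))
    (X : V) (Y : Dual F V) : Inv g X Y := by
  classical
  obtain ⟨hcyc, hnc, hunit, hroot⟩ := cert_of_card hq
  have fin : ∀ (b : Basis (Fin 3) F V) (M y : Matrix (Fin 3) (Fin 3) F),
      LinearMap.toMatrix b b g = M → Good M y → Inv g X Y := by
    intro b M ym hM hgood
    obtain ⟨⟨h1, h2, h3⟩, h4, h5, h6⟩ := hgood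
    set R : F[X] := Polynomial.X ^ 3 - Polynomial.X - 1 with hR
    have hRy : ym.charpoly = R := by rw [charpoly_three, h1, h2, h3]; simp [R]; ring
    have hRg : (M * ym).charpoly = R := by rw [charpoly_three, h4, h5, h6]; simp [R]; ring
    have hdeg : R.natDegree = 3 := by
      rw [← hRy, Matrix.charpoly_natDegree_eq_dim, Fintype.card_fin]
    have hirr : Irreducible R := by
      rw [Polynomial.irreducible_iff_roots_eq_zero_of_degree_le_three (by omega) (by omega)]
      refine Multiset.eq_zero_of_forall_notMem fun x hx => hroot x ?_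
      simpa [R] using isRoot_of_mem_roots hx
    let y : End F V := Matrix.toLin b b ym
    have hym : LinearMap.toMatrix b b y = ym := LinearMap.toMatrix_toLin b b ym
    have hych : y.charpoly = R := by rw [← LinearMap.charpoly_toMatrix y b, hym, hRy]
    refine inv_base g y X Y ?_ ?_ (hych ▸ hirr.squarefree) ?_ ?_
    · rw [← LinearMap.det_toMatrix b, hym, h3]
    · rw [hych, ← LinearMap.charpoly_toMatrix (g * y) b, LinearMap.toMatrix_mul, hym, hM, hRg]
    · rw [hych]
      simpa [R] using hroot 1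
    · intro d hd0
      rcases hunit d hd0 with rfl | ⟨rfl, h⟩
      · exact ⟨1, by simp, by simp⟩
      · refine ⟨R - 1, by simpa [R] using (by linear_combination h : (-1 : F) - 1 = 1), ?_⟩
        rw [← LinearMap.det_toMatrix b,
          show LinearMap.toMatrix b b (aeval y (R - 1)) = aeval ym (R - 1) by
            rw [← hym]; exact (aeval_algHom_apply (LinearMap.toMatrixAlgEquiv b).toAlgHom y _).symm,
          map_sub, map_one, ← hRy, Matrix.aeval_self_charpoly, zero_sub, Matrix.det_neg]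
        simp
        norm_num
  obtain ⟨v, hv⟩ := exists_indep g (fun a ha => by
    rcases eq_or_ne a 1 with rfl | ha1
    · rw [ha, one_smul, sub_self, LinearMap.range_zero, finrank_bot] at hr
      omega
    · have : a ^ 3 = 1 := by rw [← hn, ← hd, ha, LinearMap.det_smul, LinearMap.det_id, mul_one]
      rcases eq_or_ne a 0 with rfl | ha0
      · simp at this
      · rcases hunit a ha0 with h | ⟨rfl, h⟩
        · exact ha1 h
        · exact ha1 (by linear_combination this))
  by_cases h3 : g (g v) ∈ Submodule.span F (Set.range ![v, g v])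
  · obtain ⟨w, hw⟩ : ∃ w, w ∉ Submodule.span F (Set.range ![v, g v]) := by
      by_contra hne
      push Not at hne
      have := finrank_span_eq_card hv
      rw [Submodule.eq_top_iff'.2 hne, finrank_top, hn] at this
      simp at this
    have hli : LinearIndependent F ![v, g v, w] := by
      have := linearIndependent_finSnoc.2 ⟨hv, hw⟩
      convert this using 1
      ext i; fin_cases i <;> rfl
    let b : Basis (Fin 3) F V := basisOfLinearIndependentOfCardEqFinrank hli (by simp [hn])
    have hb : ⇑b = ![v, g v, w] := coe_basisOfLinearIndependentOfCardEqFinrank _ _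
    rw [Matrix.range_cons, Matrix.range_cons, Matrix.range_empty, Set.union_empty, ← Set.insert_eq] at h3
    obtain ⟨a, c, hac⟩ := Submodule.mem_span_pair.1 h3
    set G := LinearMap.toMatrix b b g with hG
    have hgw : g w = G 0 2 • v + G 1 2 • g v + G 2 2 • w := by
      conv_lhs => rw [← b.sum_repr (g w)]
      rw [Fin.sum_univ_three, hG]
      simp [LinearMap.toMatrix_apply, hb]
    have hM : G = !![0, a, G 0 2; 1, c, G 1 2; 0, 0, G 2 2] := by
      have e0 : g (b 0) = b 1 := by simp [hb]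
      have e1 : g (b 1) = a • b 0 + c • b 1 := by simp [hb, ← hac]
      ext i j
      fin_cases j <;> fin_cases i <;>
        simp [hG, LinearMap.toMatrix_apply, e0, e1, Finsupp.single_apply]
    have hdet : -(a * G 2 2) = 1 := by
      rw [← hd, ← LinearMap.det_toMatrix b, ← hG]
      conv_rhs => rw [hM]
      simp [Matrix.det_fin_three]
    rcases hnc a c (G 0 2) (G 1 2) (G 2 2) hdet with ⟨x1, x2, x3⟩ | ⟨y, hy⟩
    · exfalso
      have hle : LinearMap.range (g - LinearMap.id) ≤ Submodule.span F {g v - v} := by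
        rw [LinearMap.range_eq_map, ← b.span_eq, Submodule.map_span_le]
        rintro _ ⟨i, rfl⟩
        rw [Submodule.mem_span_singleton, hb]
        fin_cases i
        · exact ⟨1, by simp⟩
        · refine ⟨c - 1, ?_⟩
          simp only [LinearMap.sub_apply, LinearMap.id_apply]
          show (c - 1) • (g v - v) = g (g v) - g v
          rw [← hac, show a = 1 - c by linear_combination x2]
          simp [smul_sub, sub_smul]; abel
        · refine ⟨G 1 2, ?_⟩
          simp only [LinearMap.sub_apply, LinearMap.id_apply]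
          show G 1 2 • (g v - v) = g w - w
          rw [hgw, x1, show G 0 2 = -G 1 2 by linear_combination x3]
          simp [smul_sub]; abel
      have := (hr.trans (Submodule.finrank_mono hle)).trans (finrank_span_le_card _)
      simp at this
    · exact fin b _ y hM hy
  · have hli : LinearIndependent F ![v, g v, g (g v)] := by
      have := linearIndependent_finSnoc.2 ⟨hv, h3⟩
      convert this using 1
      ext i; fin_cases i <;> rfl
    let b : Basis (Fin 3) F V := basisOfLinearIndependentOfCardEqFinrank hli (by simp [hn])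
    have hb : ⇑b = ![v, g v, g (g v)] := coe_basisOfLinearIndependentOfCardEqFinrank _ _
    set G := LinearMap.toMatrix b b g with hG
    have hM0 : G = !![0, 0, G 0 2; 1, 0, G 1 2; 0, 1, G 2 2] := by
      have e0 : g (b 0) = b 1 := by simp [hb]
      have e1 : g (b 1) = b 2 := by simp [hb]
      ext i j
      fin_cases j <;> fin_cases i <;>
        simp [hG, LinearMap.toMatrix_apply, e0, e1, Finsupp.single_apply]
    have h02 : G 0 2 = 1 := by
      rw [← hd, ← LinearMap.det_toMatrix b, ← hG]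
      conv_rhs => rw [hM0]
      simp [Matrix.det_fin_three]
    obtain ⟨y, hy⟩ := hcyc (G 1 2) (G 2 2)
    rw [h02] at hM0
    exact fin b _ y hM0 hy

end Cfsg.Agent.Commutator
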