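import Cfsg.Agent.Lib.Commutator.Small
import Cfsg.Agent.Lib.Commutator.Three

/-!
Every nonscalar operator of determinant one is a commutator.
-/

set_option autoImplicit false

open Module Submodule

namespace Cfsg.Agent.Commutator

universe u

variable {F : Type u} [Field F] [Fintype F]

/-- The induction. -/
theorem inv_all : ∀ (n : ℕ) (V : Type u) [AddCommGroup V] [Module F V] [FiniteDimensional F V] (g : End F V),
    finrank F V = n → LinearMap.det g = 1 → (∀ a : F, g ≠ a • LinearMap.id) →
    ((4 ≤ Fintype.card F ∧ n = 2) ∨ (Fintype.card F ≤ 3 ∧ n = 3 ∧ 2 ≤ finrank F (LinearMap.range (g - LinearMap.id))) ∨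
      (((4 ≤ Fintype.card F ∧ 3 ≤ n) ∨ 4 ≤ n) ∧
        (if Fintype.card F = 2 then 3 else 2) ≤ finrank F (LinearMap.range (g - LinearMap.id)))) →
    ∀ (X : V) (Y : Dual F V), (3 ≤ n → ((4 ≤ Fintype.card F) ∨ 4 ≤ n) → X ≠ 0 ∧ Y ≠ 0) → Inv g X Y := by
  intro n
  induction n using Nat.strong_induction_on with
  | _ n ih =>
    intro V _ _ _ g hn hd hns hcase X Y hXY
    rcases hcase with ⟨hq, h2⟩ | ⟨hq, h3, hr⟩ | ⟨hbig, hr⟩
    · exact inv_two hq g (hn.trans h2) hd hns X Y
    · exact inv_three hq g (hn.trans h3) hd hr X Y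
    · have hXY' := hXY (by omega) (by omega)
      obtain ⟨v, φ, hv, hgv, hX, hY, hns1, hr4, hnext⟩ :=
        exists_step g hd hns hr (by rwa [hn]) X hXY'.1 Y hXY'.2
      have hW : finrank F (LinearMap.ker φ) + 1 = n :=
        hn ▸ Module.Dual.finrank_ker_add_one_of_ne_zero (f := φ) (fun h => by simp [h] at hv)
      refine Inv.step g X Y v φ hv hgv hX hY (ih (n - 1) (by omega) (LinearMap.ker φ) _ (by omega)
        ((det_schur v φ hv g hgv).trans hd) hns1 ?_ _ _ ?_)
      · rw [hn] at hr4 hnext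
        by_cases hnf : (4 ≤ Fintype.card F ∧ 4 ≤ n) ∨ 5 ≤ n
        · exact Or.inr (Or.inr ⟨by omega, (hnext hnf).1⟩)
        · rcases le_or_gt 4 (Fintype.card F) with hq | hq
          · exact Or.inl ⟨hq, by omega⟩
          · exact Or.inr (Or.inl ⟨by omega, by omega, hr4 (by omega)⟩)
      · intro h1 h2
        rw [hn] at hnext
        exact (hnext (by omega)).2

variable {V : Type u} [AddCommGroup V] [Module F V] [FiniteDimensional F V]

theorem comm_of_inv (g : End F V) (hd : LinearMap.det g = 1) (X : V) (Y : Dual F V) (h : Inv g X Y) :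
    Comm g := by
  refine comm_of_sl (Module.finBasis F V) g hd fun G hG => ?_
  exact exists_commutator_of_inv (Module.finBasis F V) G X Y (hG.symm ▸ h)

theorem comm_of_case (g : End F V) (hd : LinearMap.det g = 1) (hns : ∀ a : F, g ≠ a • LinearMap.id)
    (hcase : (4 ≤ Fintype.card F ∧ finrank F V = 2) ∨
      (Fintype.card F ≤ 3 ∧ finrank F V = 3 ∧ 2 ≤ finrank F (LinearMap.range (g - LinearMap.id))) ∨
      (((4 ≤ Fintype.card F ∧ 3 ≤ finrank F V) ∨ 4 ≤ finrank F V) ∧
        (if Fintype.card F = 2 then 3 else 2) ≤ finrank F (LinearMap.range (g - LinearMap.id)))) : Comm g := by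
  haveI : Nontrivial V := Module.nontrivial_of_finrank_pos (R := F) (by omega)
  obtain ⟨X, hX⟩ := exists_ne (0 : V)
  obtain ⟨Y, hY⟩ := exists_ne (0 : Dual F V)
  exact comm_of_inv g hd X Y (inv_all _ V g rfl hd hns hcase X Y fun _ _ => ⟨hX, hY⟩)

/-- Over two elements, rank two reduces to dimension three. -/
theorem comm_two_two (g : End F V) (hd : LinearMap.det g = 1) (h3 : 3 ≤ finrank F V) (hq : Fintype.card F = 2)
    (hr : finrank F (LinearMap.range (g - LinearMap.id)) = 2)
    (hsq : ∃ z, (g - LinearMap.id : End F V) ((g - LinearMap.id : End F V) z) ≠ 0) : Comm g := by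
  set N := g - LinearMap.id with hN
  have hker : finrank F (LinearMap.range N) + finrank F (LinearMap.ker N) = finrank F V :=
    LinearMap.finrank_range_add_finrank_ker N
  have hd1 : finrank F ↥(LinearMap.range N ⊓ LinearMap.ker N) ≤ 1 := by
    by_contra hgt
    have := Submodule.eq_of_le_of_finrank_le (inf_le_left : LinearMap.range N ⊓ LinearMap.ker N ≤ LinearMap.range N)
      (by omega)
    obtain ⟨z, hz⟩ := hsq
    exact hz (LinearMap.mem_ker.1 (this.ge (LinearMap.mem_range_self N z)).2)
  obtain ⟨C, hC⟩ := Submodule.exists_isCompl (LinearMap.range N ⊔ LinearMap.ker N)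
  have e1 := Submodule.finrank_sup_add_finrank_inf_eq (LinearMap.range N) (LinearMap.ker N)
  have e2 := Submodule.finrank_add_eq_of_isCompl hC
  have e3 := Submodule.finrank_add_le_finrank_add_finrank (LinearMap.range N) C
  have e4 : finrank F ↥(LinearMap.range N ⊔ C) ≥ 2 := hr ▸ Submodule.finrank_mono le_sup_left
  obtain ⟨U, hUle, hU3⟩ : ∃ U, LinearMap.range N ⊔ C ≤ U ∧ finrank F U = 3 := by
    rcases (show finrank F ↥(LinearMap.range N ⊔ C) = 2 ∨ finrank F ↥(LinearMap.range N ⊔ C) = 3 by omega) with h | h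
    · obtain ⟨x, hx⟩ := exists_notMem (ne_top_of_finrank_lt (H := LinearMap.range N ⊔ C) (by omega))
      exact ⟨_, le_sup_left, by rw [finrank_sup_singleton hx, h]⟩
    · exact ⟨_, le_rfl, h⟩
  have hUk : U ⊔ LinearMap.ker N = ⊤ := by
    rw [eq_top_iff, ← hC.sup_eq_top]
    exact sup_le (sup_le (le_sup_of_le_left (le_sup_left.trans hUle)) le_sup_right)
      (le_sup_of_le_left (le_sup_right.trans hUle))
  obtain ⟨C', hC'⟩ := Submodule.exists_isCompl (U ⊓ LinearMap.ker N)
  have hk' : LinearMap.ker N ≤ (U ⊓ LinearMap.ker N) ⊔ LinearMap.ker N ⊓ C' := by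
    rw [inf_comm (LinearMap.ker N) C', ← sup_inf_assoc_of_le C' (inf_le_right : U ⊓ LinearMap.ker N ≤ LinearMap.ker N),
      hC'.sup_eq_top, top_inf_eq]
  have hcompl : IsCompl U (LinearMap.ker N ⊓ C') := by
    constructor
    · rw [disjoint_iff, ← inf_assoc]
      exact hC'.inf_eq_bot
    · rw [codisjoint_iff, eq_top_iff, ← hUk]
      exact sup_le le_sup_left (hk'.trans (sup_le (le_sup_of_le_left inf_le_left) le_sup_right))
  have hNU : ∀ z, N z ∈ U := fun z => hUle (mem_sup_left (LinearMap.mem_range_self N z))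
  have hgU : ∀ x ∈ U, g x ∈ U := fun x hx => by
    have := U.add_mem (hNU x) hx
    simpa [hN] using this
  refine Comm.extend g hcompl (g.restrict hgU) (fun x => rfl) (fun x => ?_) ?_
  · have : N (x : V) = 0 := LinearMap.mem_ker.1 x.2.1
    simpa [hN, sub_eq_zero] using this
  have hd0 : LinearMap.det (g.restrict hgU) = 1 := by
    let P := U.prodEquivOfIsCompl _ hcompl
    have : g = P.toLinearMap ∘ₗ (g.restrict hgU).prodMap LinearMap.id ∘ₗ P.symm.toLinearMap := by
      refine LinearMap.ext fun z => ?_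
      obtain ⟨⟨x, y⟩, rfl⟩ := P.surjective z
      have : N (y : V) = 0 := LinearMap.mem_ker.1 y.2.1
      have hy : g (y : V) = y := by simpa [hN, sub_eq_zero] using this
      simp [P, hy]
    rw [this, LinearMap.det_conj, LinearMap.det_prodMap, LinearMap.det_id, mul_one] at hd
    exact hd
  have hr0 : finrank F (LinearMap.range (g.restrict hgU - LinearMap.id)) = 2 := by
    rw [← Submodule.finrank_map_subtype_eq, ← hr]
    refine congrArg (fun S : Submodule F V => finrank F S) ?_
    apply le_antisymm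
    · rintro _ ⟨_, ⟨x, rfl⟩, rfl⟩
      exact ⟨x, by simp [hN]⟩
    · rintro _ ⟨z, rfl⟩
      obtain ⟨⟨x, y⟩, rfl⟩ := (U.prodEquivOfIsCompl _ hcompl).surjective z
      refine ⟨_, ⟨x, rfl⟩, ?_⟩
      rw [Submodule.coe_prodEquivOfIsCompl', map_add, LinearMap.mem_ker.1 y.2.1, add_zero]
      simp [hN]
  refine comm_of_case _ hd0 (fun a ha => ?_) (Or.inr (Or.inl ⟨by omega, hU3, hr0.ge⟩))
  -- a scalar would have rank zero or three
  rcases eq_or_ne a 1 with rfl | ha1
  · rw [ha, one_smul, sub_self, LinearMap.range_zero, finrank_bot] at hr0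
    omega
  · have : (g.restrict hgU - LinearMap.id) = (a - 1) • LinearMap.id := LinearMap.ext fun x => by simp [ha, sub_smul]
    rw [this, LinearMap.range_smul _ _ (sub_ne_zero.2 ha1), LinearMap.range_id, finrank_top, hU3] at hr0
    omega

/-- Nonscalar operators of determinant one are commutators. -/
theorem comm_of_nonscalar (g : End F V) (hd : LinearMap.det g = 1) (hns : ∀ a : F, g ≠ a • LinearMap.id)
    (h2 : 2 ≤ finrank F V) (hex : finrank F V = 2 → 4 ≤ Fintype.card F) : Comm g := by
  rcases eq_or_lt_of_le h2 with h | h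
  · exact comm_of_case g hd hns (Or.inl ⟨hex h.symm, h.symm⟩)
  set r := finrank F (LinearMap.range (g - LinearMap.id)) with hr
  by_cases hsq : ∀ z, (g - LinearMap.id : End F V) ((g - LinearMap.id : End F V) z) = 0
  · exact comm_of_sq_zero g h hsq
  push Not at hsq
  have hr2 : 2 ≤ r := by
    by_contra hlt
    obtain ⟨z, hz⟩ := hsq
    set N := g - LinearMap.id with hN
    set w := N z with hw
    have hw0 : w ≠ 0 := fun h0 => hz (by rw [h0, map_zero])
    have hspan : LinearMap.range N = span F {w} :=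
      (Submodule.eq_of_le_of_finrank_le ((span_singleton_le_iff_mem _ _).2 (LinearMap.mem_range_self N z))
        (by rw [finrank_span_singleton hw0]; omega)).symm
    obtain ⟨ψ, hψ⟩ : ∃ ψ : Dual F V, ψ w = 1 := by
      obtain ⟨ψ, hψ⟩ := Module.Projective.exists_dual_ne_zero F hw0
      exact ⟨(ψ w)⁻¹ • ψ, by simp [hψ]⟩
    have hNf : ∀ x, N x = ψ (N x) • w := fun x => by
      obtain ⟨c, hc⟩ := Submodule.mem_span_singleton.1 (hspan.le (LinearMap.mem_range_self N x))
      rw [← hc, map_smul, hψ, smul_eq_mul, mul_one]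
    have : g = LinearMap.transvection (ψ.comp N) w := LinearMap.ext fun x => by
      rw [LinearMap.transvection.apply, LinearMap.comp_apply, ← hNf, hN]
      simp
    rw [this, LinearMap.transvection.det, LinearMap.comp_apply, add_eq_left] at hd
    exact hz (by rw [hNf w, hd, zero_smul])
  have hq : 2 ≤ Fintype.card F := Fintype.one_lt_card
  by_cases hsmall : Fintype.card F ≤ 3 ∧ finrank F V = 3
  · exact comm_of_case g hd hns (Or.inr (Or.inl ⟨hsmall.1, hsmall.2, hr2⟩))
  by_cases hq2 : Fintype.card F = 2 ∧ r = 2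
  · exact comm_two_two g hd h hq2.1 hq2.2 hsq
  refine comm_of_case g hd hns (Or.inr (Or.inr ⟨by omega, ?_⟩))
  rw [← hr]
  split_ifs with hh <;> omega

end Cfsg.Agent.Commutator
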