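import Cfsg.Agent.Lib.Commutator.Step
import Cfsg.Agent.Lib.Commutator.Base
import Cfsg.Agent.Lib.RegNilp.Basic

/-!
Every nonscalar operator of determinant one over a field with at least four elements is `x * y⁻¹` with
`x`, `y` in one prescribed class: characteristic polynomial `(X - 1)^k (X - c) (X - c⁻¹)` and at most one
independent fixed vector.
-/

set_option autoImplicit false

open Polynomial Module

namespace Cfsg.Agent.Commutator.Regular

universe u

variable {F : Type u} [Field F] {V W : Type u} [AddCommGroup V] [Module F V] [FiniteDimensional F V]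
  [AddCommGroup W] [Module F W] [FiniteDimensional F W]

/-- The two simple eigenvalues. -/
noncomputable def pairPoly (c : F) : F[X] := (Polynomial.X - C c) * (Polynomial.X - C c⁻¹)

/-- A regular operator with eigenvalues `1` (`k` times), `c` and `c⁻¹`. -/
structure IsReg (c : F) (k : ℕ) (y : End F V) : Prop where
  charpoly_eq : y.charpoly = (Polynomial.X - C 1) ^ k * pairPoly c
  ker_le : finrank F (LinearMap.ker (y - 1)) ≤ 1

theorem IsReg.finrank_eq {c : F} {k : ℕ} {y : End F V} (h : IsReg c k y) : finrank F V = k + 2 := by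
  rw [← y.charpoly_natDegree, h.charpoly_eq, pairPoly,
    ((monic_X_sub_C (1 : F)).pow k).natDegree_mul ((monic_X_sub_C c).mul (monic_X_sub_C c⁻¹)),
    (monic_X_sub_C c).natDegree_mul (monic_X_sub_C c⁻¹), natDegree_pow, natDegree_X_sub_C, natDegree_X_sub_C,
    natDegree_X_sub_C, mul_one]

theorem IsReg.conj {c : F} {k : ℕ} {y : End F V} (h : IsReg c k y) (e : V ≃ₗ[F] W) {y' : End F W}
    (he : ∀ x, e (y x) = y' (e x)) : IsReg c k y' := by
  have hy' : y' = e.conj y := LinearMap.ext fun x => by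
    rw [LinearEquiv.conj_apply_apply, he, e.apply_symm_apply]
  refine ⟨by rw [hy', LinearEquiv.charpoly_conj, h.charpoly_eq], ?_⟩
  have : LinearMap.ker (y' - 1) = (LinearMap.ker (y - 1)).map (e : V →ₗ[F] W) := by
    ext x
    rw [Submodule.mem_map_equiv, LinearMap.mem_ker, LinearMap.mem_ker, ← e.map_eq_zero_iff]
    simp [he]
  rw [this, LinearEquiv.finrank_map_eq]
  exact h.ker_le

theorem ne_of_pair {c : F} (hc : c ≠ 0) (hc2 : c * c ≠ 1) : c ≠ 1 ∧ c⁻¹ ≠ 1 ∧ c ≠ c⁻¹ :=
  ⟨fun h => hc2 (by rw [h, mul_one]), fun h => hc2 (by rw [inv_eq_one.1 h, mul_one]),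
    fun h => hc2 ((congrArg (c * ·) h).trans (mul_inv_cancel₀ hc))⟩

theorem squarefree_pair {c : F} (hc : c ≠ 0) (hc2 : c * c ≠ 1) : Squarefree (pairPoly c) :=
  ((separable_X_sub_C.mul separable_X_sub_C
    (isCoprime_X_sub_C_of_isUnit_sub (sub_ne_zero.2 (ne_of_pair hc hc2).2.2).isUnit))).squarefree

theorem coprime_one_pair {c : F} (hc : c ≠ 0) (hc2 : c * c ≠ 1) (k : ℕ) :
    IsCoprime ((Polynomial.X - C 1) ^ k) (pairPoly c) :=
  ((isCoprime_X_sub_C_of_isUnit_sub (sub_ne_zero.2 (ne_of_pair hc hc2).1.symm).isUnit).mul_right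
    (isCoprime_X_sub_C_of_isUnit_sub (sub_ne_zero.2 (ne_of_pair hc hc2).2.1.symm).isUnit)).pow_left

theorem aeval_one_pow (y : End F V) (k : ℕ) : aeval y ((Polynomial.X - C (1 : F)) ^ k) = (y - 1) ^ k := by
  simp [map_pow]

/-- The two primary components. -/
theorem isCompl {c : F} {k : ℕ} {y : End F V} (h : IsReg c k y) (hc : c ≠ 0) (hc2 : c * c ≠ 1) :
    IsCompl (LinearMap.ker ((y - 1) ^ k)) (LinearMap.ker (aeval y (pairPoly c))) := by
  rw [← aeval_one_pow y k]
  refine ⟨disjoint_ker_aeval_of_isCoprime y (coprime_one_pair hc hc2 k), ?_⟩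
  rw [codisjoint_iff, Polynomial.sup_ker_aeval_eq_ker_aeval_mul_of_coprime y (coprime_one_pair hc hc2 k),
    ← h.charpoly_eq, LinearMap.aeval_self_charpoly, LinearMap.ker_zero]

theorem ker_invariant (y : End F V) (p : F[X]) : ∀ x ∈ LinearMap.ker (aeval y p), y x ∈ LinearMap.ker (aeval y p) :=
  fun x hx => by
    rw [LinearMap.mem_ker] at hx ⊢
    rw [← Module.End.mul_apply, show aeval y p * y = y * aeval y p by
      nth_rewrite 2 [← aeval_X (R := F) y]
      nth_rewrite 3 [← aeval_X (R := F) y]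
      rw [← map_mul, ← map_mul, mul_comm], Module.End.mul_apply, hx, map_zero]

/-- Characteristic polynomial of a split operator. -/
theorem charpoly_of_isCompl (y : End F V) {A B : Submodule F V} (h : IsCompl A B)
    (hA : ∀ x ∈ A, y x ∈ A) (hB : ∀ x ∈ B, y x ∈ B) :
    y.charpoly = (y.restrict hA).charpoly * (y.restrict hB).charpoly := by
  have : y = (Submodule.prodEquivOfIsCompl A B h).conj ((y.restrict hA).prodMap (y.restrict hB)) := by
    refine LinearMap.ext fun x => ?_
    obtain ⟨⟨a, b⟩, rfl⟩ := (Submodule.prodEquivOfIsCompl A B h).surjective x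
    rw [LinearEquiv.conj_apply_apply, LinearEquiv.symm_apply_apply]
    simp
  conv_lhs => rw [this]
  rw [LinearEquiv.charpoly_conj, LinearMap.charpoly_prodMap]

theorem coprime_of_not_root {p : F[X]} {a : F} (h : ¬ p.IsRoot a) : IsCoprime (Polynomial.X - C a) p :=
  (irreducible_X_sub_C a).coprime_iff_not_dvd.2 fun hd => h (dvd_iff_isRoot.1 hd)

theorem components {c : F} {k : ℕ} {y : End F V} (h : IsReg c k y) (hc : c ≠ 0) (hc2 : c * c ≠ 1)
    (hA : ∀ x ∈ LinearMap.ker ((y - 1) ^ k), y x ∈ LinearMap.ker ((y - 1) ^ k))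
    (hB : ∀ x ∈ LinearMap.ker (aeval y (pairPoly c)), y x ∈ LinearMap.ker (aeval y (pairPoly c))) :
    (y.restrict hA).charpoly = (Polynomial.X - C 1) ^ k ∧ (y.restrict hB).charpoly = pairPoly c := by
  obtain ⟨hc1, hci, -⟩ := ne_of_pair hc hc2
  obtain ⟨p, hp⟩ : ∃ p, p = (y.restrict hA).charpoly := ⟨_, rfl⟩
  obtain ⟨q, hq⟩ : ∃ q, q = (y.restrict hB).charpoly := ⟨_, rfl⟩
  rw [← hp, ← hq]
  have mp : p.Monic := hp ▸ LinearMap.charpoly_monic _
  have mq : q.Monic := hq ▸ LinearMap.charpoly_monic _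
  have hpq : (Polynomial.X - C 1) ^ k * pairPoly c = p * q := by
    rw [← h.charpoly_eq, charpoly_of_isCompl y (isCompl h hc hc2) hA hB, hp, hq]
  have nA : ∀ a : F, a ≠ 1 → ¬ p.IsRoot a := fun a ha hr => by
    obtain ⟨v, hv⟩ := ((Module.End.hasEigenvalue_iff_isRoot_charpoly _ a).2 (hp ▸ hr)).exists_hasEigenvector
    have h1 : (y - 1) (v : V) = (a - 1) • (v : V) := by
      have := congrArg Subtype.val hv.apply_eq_smul
      rw [LinearMap.sub_apply, sub_smul, one_smul, Module.End.one_apply]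
      simpa using congrArg (· - (v : V)) this
    have hpow : ∀ j : ℕ, ((y - 1) ^ j) (v : V) = (a - 1) ^ j • (v : V) := fun j => by
      induction j with
      | zero => simp
      | succ j ih => rw [pow_succ, Module.End.mul_apply, h1, map_smul, ih, smul_smul, pow_succ, mul_comm]
    have := hpow k
    rw [LinearMap.mem_ker.1 v.2, eq_comm, smul_eq_zero] at this
    rcases this with h0 | h0
    · exact pow_ne_zero _ (sub_ne_zero.2 ha) h0
    · exact hv.2 (Subtype.ext h0)
  have nB : ¬ q.IsRoot 1 := fun hr => by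
    obtain ⟨v, hv⟩ := ((Module.End.hasEigenvalue_iff_isRoot_charpoly _ (1 : F)).2 (hq ▸ hr)).exists_hasEigenvector
    have h1 : Module.End.HasEigenvector y 1 (v : V) := by
      refine ⟨Module.End.mem_eigenspace_iff.2 ?_, fun h0 => hv.2 (Subtype.ext h0)⟩
      simpa using congrArg Subtype.val hv.apply_eq_smul
    have := Module.End.aeval_apply_of_hasEigenvector (p := pairPoly c) h1
    rw [LinearMap.mem_ker.1 v.2, eq_comm, smul_eq_zero] at this
    rcases this with h0 | h0
    · simp [pairPoly, sub_eq_zero, eq_comm (a := (1 : F)), hc1, hci] at h0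
    · exact h1.2 h0
  have dA : p ∣ (Polynomial.X - C 1) ^ k :=
    (((coprime_of_not_root (nA c hc1)).mul_left (coprime_of_not_root (nA c⁻¹ hci))).symm).dvd_of_dvd_mul_right
      (hpq ▸ Dvd.intro q rfl)
  have dB : q ∣ pairPoly c :=
    ((coprime_of_not_root nB).pow_left.symm).dvd_of_dvd_mul_left (hpq ▸ Dvd.intro_left p rfl)
  have hm1 : ((Polynomial.X - C (1 : F)) ^ k).Monic := (monic_X_sub_C 1).pow k
  have hm2 : (pairPoly c).Monic := (monic_X_sub_C _).mul (monic_X_sub_C _)
  have hdeg := congrArg natDegree hpq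
  rw [hm1.natDegree_mul hm2, mp.natDegree_mul mq] at hdeg
  have e1 := natDegree_le_of_dvd dA hm1.ne_zero
  have e2 := natDegree_le_of_dvd dB hm2.ne_zero
  exact ⟨(eq_of_monic_of_dvd_of_natDegree_le mp hm1 dA (by omega)).symm,
    (eq_of_monic_of_dvd_of_natDegree_le mq hm2 dB (by omega)).symm⟩

/-- Two regular nilpotent operators of the same dimension are conjugate. -/
theorem nilp_intertwine (N : End F V) (N' : End F W) (hd : finrank F V = finrank F W)
    (hN : IsNilpotent N) (hN' : IsNilpotent N') (h1 : finrank F (LinearMap.ker N) ≤ 1)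
    (h1' : finrank F (LinearMap.ker N') ≤ 1) : ∃ e : V ≃ₗ[F] W, ∀ x, e (N x) = N' (e x) := by
  rcases Nat.eq_zero_or_pos (finrank F V) with h0 | h0
  · haveI : Subsingleton W := Module.finrank_zero_iff.1 (hd ▸ h0)
    exact ⟨LinearEquiv.ofFinrankEq V W hd, fun x => Subsingleton.elim _ _⟩
  have hcyc : ∀ {U : Type u} [AddCommGroup U] [Module F U] [FiniteDimensional F U] (M : End F U),
      finrank F U = finrank F V → IsNilpotent M → finrank F (LinearMap.ker M) ≤ 1 →
      ∃ v : U, Function.Surjective ((LinearMap.applyₗ v).comp (aeval M : F[X] →ₐ[F] End F U).toLinearMap) ∧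
        ∀ P : F[X], aeval M P v = 0 ↔ Polynomial.X ^ finrank F V ∣ P := by
    intro U _ _ _ M hU hM hk
    have hz := RegNilp.pow_finrank_eq_zero hM
    have hr := M.finrank_range_add_finrank_ker
    have hlt : finrank F (LinearMap.range M) < finrank F U := by
      refine lt_of_le_of_ne (Submodule.finrank_le _) fun he => ?_
      obtain ⟨j, hj⟩ := hM
      haveI : Nontrivial U := Module.nontrivial_of_finrank_pos (R := F) (by omega)
      have hs : Function.Surjective M := LinearMap.range_eq_top.1 (Submodule.eq_top_of_finrank_eq he)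
      obtain ⟨u, hu⟩ := exists_ne (0 : U)
      obtain ⟨u', hu'⟩ : ∃ u', (M ^ j) u' = u := by
        rw [Module.End.coe_pow]; exact hs.iterate j u
      rw [hj, LinearMap.zero_apply] at hu'
      exact hu hu'.symm
    obtain ⟨v, hv⟩ := RegNilp.exists_cyclic hz (by omega) (by omega)
    refine ⟨v, fun w => RegNilp.exists_poly (by omega) hM hv w, fun P => ?_⟩
    rw [← hU]
    constructor
    · intro hP
      by_contra hdvd
      rcases eq_or_ne P 0 with rfl | hP0
      · exact hdvd (dvd_zero _)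
      obtain ⟨R, hR, hR0⟩ := exists_eq_pow_rootMultiplicity_mul_and_not_dvd P hP0 (0 : F)
      rw [map_zero, sub_zero] at hR hR0
      set j := P.rootMultiplicity 0
      have hj : j < finrank F U := by
        by_contra hge
        exact hdvd (hR ▸ (pow_dvd_pow _ (not_lt.1 hge)).mul_right R)
      obtain ⟨S, hS⟩ : Polynomial.X ∣ R - C (R.eval 0) := by
        rw [Polynomial.X_dvd_iff]; simp [coeff_zero_eq_eval_zero]
      have h2 : aeval M (Polynomial.X ^ (finrank F U - 1 - j) * P) v = 0 := by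
        rw [map_mul, Module.End.mul_apply, hP, map_zero]
      have he : Polynomial.X ^ (finrank F U - 1 - j) * P =
          C (R.eval 0) * Polynomial.X ^ (finrank F U - 1) + S * Polynomial.X ^ finrank F U := by
        rw [hR, ← mul_assoc, ← pow_add, show finrank F U - 1 - j + j = finrank F U - 1 by omega,
          show R = C (R.eval 0) + Polynomial.X * S by rw [← hS]; ring, mul_add, mul_comm S,
          show Polynomial.X ^ finrank F U = Polynomial.X ^ (finrank F U - 1) * Polynomial.X by
            rw [← pow_succ, Nat.sub_add_cancel (by omega : 1 ≤ finrank F U)]]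
        simp
        ring
      rw [he, map_add, map_mul, map_mul, aeval_C, aeval_X_pow, aeval_X_pow, hz, mul_zero, add_zero,
        Module.End.mul_apply, Module.algebraMap_end_apply, smul_eq_zero] at h2
      rcases h2 with h3 | h3
      · exact hR0 (by rw [Polynomial.X_dvd_iff, coeff_zero_eq_eval_zero, h3])
      · exact hv h3
    · rintro ⟨R, rfl⟩
      rw [map_mul, aeval_X_pow, hz, zero_mul, LinearMap.zero_apply]
  obtain ⟨v, hv, hkv⟩ := hcyc N rfl hN h1
  obtain ⟨w, hw, hkw⟩ := hcyc N' hd.symm hN' h1'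
  set Φ : F[X] →ₗ[F] V := (LinearMap.applyₗ v).comp (aeval N : F[X] →ₐ[F] End F V).toLinearMap
  set Ψ : F[X] →ₗ[F] W := (LinearMap.applyₗ w).comp (aeval N' : F[X] →ₐ[F] End F W).toLinearMap
  have hker : LinearMap.ker Φ = LinearMap.ker Ψ := by
    ext P
    show aeval N P v = 0 ↔ aeval N' P w = 0
    rw [hkv, hkw]
  let e : V ≃ₗ[F] W := (Φ.quotKerEquivOfSurjective hv).symm ≪≫ₗ
    Submodule.quotEquivOfEq _ _ hker ≪≫ₗ Ψ.quotKerEquivOfSurjective hw
  have he : ∀ P, e (Φ P) = Ψ P := fun P => by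
    have : Φ P = Φ.quotKerEquivOfSurjective hv (Submodule.Quotient.mk P) := rfl
    rw [this]
    simp only [e, LinearEquiv.trans_apply, LinearEquiv.symm_apply_apply]
    rfl
  refine ⟨e, fun x => ?_⟩
  obtain ⟨P, rfl⟩ := hv x
  have hX : ∀ {U : Type u} [AddCommGroup U] [Module F U] (M : End F U) (u : U),
      M (aeval M P u) = aeval M (Polynomial.X * P) u := fun M u => by
    rw [map_mul, aeval_X, Module.End.mul_apply]
  show e (N (aeval N P v)) = N' (e (Φ P))
  rw [hX, he]
  exact (he _).trans (hX N' w).symm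

/-- Regular operators with the same eigenvalues are conjugate. -/
theorem IsReg.intertwine {c : F} {k : ℕ} {f : End F V} {f' : End F W} (h : IsReg c k f) (h' : IsReg c k f')
    (hc : c ≠ 0) (hc2 : c * c ≠ 1) : ∃ e : V ≃ₗ[F] W, ∀ x, e (f x) = f' (e x) := by
  have key : ∀ {U : Type u} [AddCommGroup U] [Module F U] [FiniteDimensional F U] {y : End F U}, IsReg c k y →
      ∃ (hA : ∀ x ∈ LinearMap.ker ((y - 1) ^ k), y x ∈ LinearMap.ker ((y - 1) ^ k))
        (hB : ∀ x ∈ LinearMap.ker (aeval y (pairPoly c)), y x ∈ LinearMap.ker (aeval y (pairPoly c))),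
        finrank F (LinearMap.ker ((y - 1) ^ k)) = k ∧ IsNilpotent (y.restrict hA - 1) ∧
        finrank F (LinearMap.ker (y.restrict hA - 1)) ≤ 1 ∧ Semisimple.SS (K := F) (y.restrict hB) ∧
        (y.restrict hB).charpoly = pairPoly c := by
    intro U _ _ _ y hy
    have hA : ∀ x ∈ LinearMap.ker ((y - 1) ^ k), y x ∈ LinearMap.ker ((y - 1) ^ k) := by
      rw [← aeval_one_pow y k]; exact ker_invariant y _
    have hB := ker_invariant y (pairPoly c)
    obtain ⟨c1, c2⟩ := components hy hc hc2 hA hB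
    refine ⟨hA, hB, ?_, ⟨k, ?_⟩, ?_, ⟨pairPoly c, squarefree_pair hc hc2, ?_⟩, c2⟩
    · rw [← (y.restrict hA).charpoly_natDegree, c1, natDegree_pow, natDegree_X_sub_C, mul_one]
    · have := LinearMap.aeval_self_charpoly (y.restrict hA)
      rw [c1] at this
      simpa [map_pow] using this
    · refine le_trans ?_ hy.ker_le
      refine LinearMap.finrank_le_finrank_of_injective (f := LinearMap.codRestrict (LinearMap.ker (y - 1))
        ((LinearMap.ker ((y - 1) ^ k)).subtype ∘ₗ (LinearMap.ker (y.restrict hA - 1)).subtype)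
        fun x => ?_) fun x x' hx => Subtype.ext (Subtype.ext
          (congrArg (fun t : LinearMap.ker (y - 1) => (t : U)) hx :))
      have := congrArg (fun t : LinearMap.ker ((y - 1) ^ k) => (t : U)) (LinearMap.mem_ker.1 x.2)
      rw [LinearMap.mem_ker]
      exact this
    · conv_lhs => arg 2; rw [← c2]
      exact LinearMap.aeval_self_charpoly _
  obtain ⟨hA, hB, dA, nA, kA, sB, cB⟩ := key h
  obtain ⟨hA', hB', dA', nA', kA', sB', cB'⟩ := key h'
  obtain ⟨e1, he1⟩ := nilp_intertwine _ _ (dA.trans dA'.symm) nA nA' kA kA'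
  obtain ⟨e2, he2⟩ := Semisimple.exists_intertwine _ _ _ _ _ rfl sB sB' (cB.trans cB'.symm)
  let P := Submodule.prodEquivOfIsCompl _ _ (isCompl h hc hc2)
  let P' := Submodule.prodEquivOfIsCompl _ _ (isCompl h' hc hc2)
  refine ⟨P.symm ≪≫ₗ e1.prodCongr e2 ≪≫ₗ P', fun x => ?_⟩
  obtain ⟨⟨a, b⟩, rfl⟩ := P.surjective x
  have hf : f (P (a, b)) = P (f.restrict hA a, f.restrict hB b) := by simp [P]
  have h1 : e1 (f.restrict hA a) = f'.restrict hA' (e1 a) := by
    have := he1 a
    rw [LinearMap.sub_apply, LinearMap.sub_apply, map_sub, Module.End.one_apply, Module.End.one_apply] at this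
    exact sub_left_inj.1 this
  rw [hf]
  simp only [LinearEquiv.trans_apply, LinearEquiv.symm_apply_apply, LinearEquiv.prodCongr_apply, h1, he2]
  simp [P']

/-- Determinants in the algebra generated by `y` (normalised at `1`). -/
def DetFull (y : End F V) : Prop :=
  ∀ d : F, d ≠ 0 → ∃ Q : F[X], Q.eval 1 = 1 ∧ LinearMap.det (aeval y Q) = d

theorem DetFull.conj {y : End F V} (h : DetFull y) (e : V ≃ₗ[F] W) {y' : End F W}
    (he : ∀ x, e (y x) = y' (e x)) : DetFull y' := by
  intro d hd
  obtain ⟨Q, hQ1, hQd⟩ := h d hd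
  refine ⟨Q, hQ1, ?_⟩
  have hy' : y' = e.conj y := LinearMap.ext fun x => by
    rw [LinearEquiv.conj_apply_apply, he, e.apply_symm_apply]
  rw [hy', show aeval (e.conj y) Q = e.conj (aeval y Q) from
    aeval_algHom_apply (e.conjAlgEquiv F).toAlgHom y Q, ← hQd]
  exact LinearMap.det_conj (aeval y Q) e

/-- The invariant of the induction. -/
def RInv (c : F) (k : ℕ) (g : End F V) (X : V) (Y : Dual F V) : Prop :=
  ∃ (y : End F V) (e : V ≃ₗ[F] Dual F V) (a : F) (w : Dual F V), a ≠ 0 ∧
    y.charpoly = (Polynomial.X - C 1) ^ k * pairPoly c ∧ DetFull y ∧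
    (∀ x, e (g (y x)) = (e x).comp y) ∧
    e X = a • (Y.comp y) + (w.comp y - w) ∧
    ∀ ψ : Dual F V, ∃ (b : F) (w' : Dual F V), ψ = b • (Y.comp y) + (w'.comp y - w')

theorem charpoly_tri (v : V) (φ : Dual F V) (hv : φ v = 1) (lam : Dual F (LinearMap.ker φ))
    (y : End F (LinearMap.ker φ)) :
    (tri v φ hv lam y).charpoly = (Polynomial.X - C 1) * y.charpoly := by
  classical
  let E : (F × LinearMap.ker φ) ≃ₗ[F] V :=
    { toFun := fun p => p.1 • v + (p.2 : V)
      map_add' := fun p q => by simp [add_smul]; abel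
      map_smul' := fun a p => by simp [smul_add, mul_smul]
      invFun := fun z => (φ z, proj v φ hv z)
      left_inv := fun p => by
        ext
        · simp [hv, LinearMap.mem_ker.1 p.2.2]
        · simp [proj_coe, hv, LinearMap.mem_ker.1 p.2.2]
      right_inv := fun z => (decomp v φ hv z).symm }
  let M : End F (F × LinearMap.ker φ) :=
    ((LinearMap.fst F F _) + lam.comp (LinearMap.snd F F _)).prod (y.comp (LinearMap.snd F F _))
  have hM : tri v φ hv lam y = E.conj M := by
    refine LinearMap.ext fun z => ?_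
    rw [LinearEquiv.conj_apply_apply, tri_apply]
    rfl
  rw [hM, LinearEquiv.charpoly_conj]
  let b2 := Module.finBasis F (LinearMap.ker φ)
  let B := (Basis.singleton Unit F).prod b2
  have hB : LinearMap.toMatrix B B M =
      Matrix.fromBlocks 1 (LinearMap.toMatrix b2 (Basis.singleton Unit F) lam) 0 (LinearMap.toMatrix b2 b2 y) := by
    ext (i | i) (j | j) <;> simp [LinearMap.toMatrix_apply, M, B, Matrix.one_apply]
  rw [← LinearMap.charpoly_toMatrix M B, hB, Matrix.charpoly_fromBlocks_zero₂₁, Matrix.charpoly_one,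
    LinearMap.charpoly_toMatrix y b2]
  simp

/-- The inductive step. -/
theorem RInv.step {c : F} {k : ℕ} (g : End F V) (X : V) (Y : Dual F V) (v : V) (φ : Dual F V) (hv : φ v = 1)
    (hgv : φ (g v) = 1) (hX : φ X ≠ 0) (hY : Y v ≠ 0)
    (h : RInv c k (schur v φ hv g) (proj v φ hv (g v)) ((φ.comp g).comp (LinearMap.ker φ).subtype)) :
    RInv c (k + 1) g X Y := by
  set Y1 := (φ.comp g).comp (LinearMap.ker φ).subtype
  set X1 := proj v φ hv (g v)
  set g1 : End F (LinearMap.ker φ) := schur v φ hv g with hg1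
  set P := proj v φ hv with hP
  obtain ⟨y, e, c0, w, hc, hy, hQ, he, hX1, hfull⟩ := h
  let y' := tri v φ hv (-(Y1.comp y)) y
  let T : V → Dual F V := fun z => (-c0 * φ z) • φ + ((φ z • w + e (P z)).comp P)
  let e0 : V →ₗ[F] Dual F V :=
    { toFun := T
      map_add' := fun a b => by
        refine LinearMap.ext fun t => ?_
        simp [T]; ring
      map_smul' := fun a b => by
        refine LinearMap.ext fun t => ?_
        simp [T]; ring }
  have he0 : ∀ z t, e0 z t = -c0 * φ z * φ t + (φ z * w (P t) + e (P z) (P t)) := fun z t => by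
    simp [e0, T]
  have hinj : Function.Injective e0 := by
    rw [injective_iff_map_eq_zero]
    intro z hz
    have h1 : φ z = 0 := by
      have := LinearMap.congr_fun hz v
      rw [he0] at this
      simpa [P, proj_self, hv, hc] using this
    have h2 : e (P z) = 0 := by
      refine LinearMap.ext fun t => ?_
      have := LinearMap.congr_fun hz (t : V)
      rw [he0] at this
      simpa [P, proj_ker, h1, LinearMap.mem_ker.1 t.2] using this
    rw [decomp v φ hv z, h1, e.map_eq_zero_iff.1 h2]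
    simp
  let e' : V ≃ₗ[F] Dual F V := LinearMap.linearEquivOfInjective e0 hinj Subspace.dual_finrank_eq.symm
  have he' : ∀ z t, e' z t = -c0 * φ z * φ t + (φ z * w (P t) + e (P z) (P t)) := fun z t => he0 z t
  have hgw : ∀ r : LinearMap.ker φ, g (r : V) = Y1 r • g v + (g1 r : V) := fun r => by
    simp only [hg1, schur, Y1, X1, LinearMap.sub_apply, LinearMap.comp_apply, LinearMap.smulRight_apply,
      Submodule.coe_subtype, Submodule.coe_sub, Submodule.coe_smul, proj_coe, hgv, one_smul, smul_sub]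
    abel
  have hgy : ∀ z, g (y' z) = φ z • g v + (g1 (y (P z)) : V) := by
    intro z
    rw [show y' z = (φ z + (-(Y1.comp y)) (P z)) • v + (y (P z) : V) from rfl, map_add, map_smul, hgw]
    simp only [LinearMap.neg_apply, LinearMap.comp_apply, add_smul, neg_smul]
    abel
  have hYy' : ∀ t, Y (y' t) = (φ t - Y1 (y (P t))) * Y v + Y (y (P t) : V) := fun t => by
    rw [show y' t = (φ t + (-(Y1.comp y)) (P t)) • v + (y (P t) : V) from rfl, map_add, map_smul]
    simp [sub_eq_add_neg]
  have key : ∀ ψ : Dual F V, ∃ (w' : Dual F V), ψ = (ψ v / Y v) • (Y.comp y') + (w'.comp y' - w') := by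
    intro ψ
    set D : Dual F V := ψ - (ψ v / Y v) • (Y.comp y') with hD
    have hDv : D v = 0 := by
      simp [D, hYy', P, proj_self, hv, hY]
    obtain ⟨a, w1, ha⟩ := hfull (D.comp (LinearMap.ker φ).subtype)
    refine ⟨(-a) • φ + w1.comp P, ?_⟩
    rw [← sub_eq_iff_eq_add', ← hD]
    refine LinearMap.ext fun t => ?_
    have h1 := LinearMap.congr_fun ha (P t)
    simp only [LinearMap.comp_apply, Submodule.coe_subtype, LinearMap.add_apply, LinearMap.smul_apply,
      LinearMap.sub_apply, smul_eq_mul] at h1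
    have h2 : D t = D (P t : V) := by
      conv_lhs => rw [decomp v φ hv t]
      rw [map_add, map_smul, hDv, smul_zero, zero_add]
    rw [h2, h1]
    simp only [LinearMap.sub_apply, LinearMap.comp_apply, LinearMap.add_apply, LinearMap.smul_apply,
      smul_eq_mul, y', P, phi_tri, proj_tri, LinearMap.neg_apply]
    ring
  obtain ⟨w', hw'⟩ := key (e' X)
  refine ⟨y', e', e' X v / Y v, w', ?_, ?_, ?_, ?_, hw', fun ψ => ?_⟩
  · refine div_ne_zero ?_ hY
    rw [he']
    simp [P, proj_self, hv, hc, hX]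
  · rw [show y' = tri v φ hv (-(Y1.comp y)) y from rfl, charpoly_tri, hy, pow_succ]
    ring
  · intro d hd
    obtain ⟨Q, hQ1, hQd⟩ := hQ d hd
    obtain ⟨m, hm⟩ := aeval_tri v φ hv (-(Y1.comp y)) y Q
    refine ⟨Q, hQ1, ?_⟩
    rw [show aeval y' Q = tri v φ hv m (aeval y Q) from LinearMap.ext fun z => by
      rw [hm, tri_apply, hQ1, one_mul], det_tri, hQd]
  · intro z
    refine LinearMap.ext fun t => ?_
    have h1 : φ (g (y' z)) = φ z := by
      rw [hgy, map_add, map_smul, hgv, LinearMap.mem_ker.1 (g1 _).2]; simp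
    have h2 : P (g (y' z)) = φ z • X1 + g1 (y (P z)) := by
      rw [hgy, map_add, map_smul, proj_ker]
    rw [LinearMap.comp_apply, he', he', h1, h2, map_add, map_smul, he, hX1]
    simp only [LinearMap.add_apply, LinearMap.smul_apply, LinearMap.sub_apply, LinearMap.comp_apply,
      smul_eq_mul, y', P, phi_tri, proj_tri, LinearMap.neg_apply]
    ring
  · obtain ⟨w', hw'⟩ := key ψ
    exact ⟨_, w', hw'⟩

/-- Dimension two. -/
theorem rinv_two (c : F) (hc : c ≠ 0) (hc2 : c * c ≠ 1) (g : End F V) (hn : finrank F V = 2)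
    (hd : LinearMap.det g = 1) (hg : ∀ a : F, g ≠ a • LinearMap.id) (X : V) (Y : Dual F V) :
    RInv c 0 g X Y := by
  classical
  obtain ⟨hc1, hci, hne⟩ := ne_of_pair hc hc2
  obtain ⟨v, hv⟩ := exists_indep g hg
  let b : Basis (Fin 2) F V := basisOfLinearIndependentOfCardEqFinrank hv (by simp [hn])
  set G := LinearMap.toMatrix b b g with hG
  have hb : ⇑b = ![v, g v] := coe_basisOfLinearIndependentOfCardEqFinrank _ _
  have hcol : ∀ i, G i 0 = if i = 1 then 1 else 0 := by
    intro i
    rw [hG, LinearMap.toMatrix_apply, hb]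
    show b.repr (g v) i = _
    rw [show g v = b 1 by simp [hb], Basis.repr_self, Finsupp.single_apply]
    simp [eq_comm]
  have hGd : G.det = 1 := by rw [hG, LinearMap.det_toMatrix, hd]
  have h01 : G 0 1 = -1 := by
    rw [Matrix.det_fin_two, hcol 0, hcol 1] at hGd
    simp at hGd
    linear_combination -hGd
  let ym : Matrix (Fin 2) (Fin 2) F := !![c, c + c⁻¹ - G 1 1 / c; 0, c⁻¹]
  let y : End F V := Matrix.toLin b b ym
  have hym : LinearMap.toMatrix b b y = ym := LinearMap.toMatrix_toLin b b ym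
  have hych : y.charpoly = pairPoly c := by
    rw [← LinearMap.charpoly_toMatrix y b, hym, Matrix.charpoly_fin_two]
    simp [ym, pairPoly, Matrix.trace_fin_two, Matrix.det_fin_two, mul_inv_cancel₀ hc]
    have : (C c : F[X]) * C c⁻¹ = 1 := by rw [← C_mul, mul_inv_cancel₀ hc, C_1]
    linear_combination -this
  have hgych : (g * y).charpoly = pairPoly c := by
    rw [← hych, ← LinearMap.charpoly_toMatrix (g * y) b, ← LinearMap.charpoly_toMatrix y b, hym,
      LinearMap.toMatrix_mul, hym, ← hG, Matrix.charpoly_fin_two, Matrix.charpoly_fin_two,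
      Matrix.det_mul, hGd, one_mul]
    congr 3
    simp [Matrix.trace_fin_two, Matrix.mul_apply, Fin.sum_univ_two, ym, hcol, h01]
    rw [div_eq_mul_inv, C_mul]
    ring
  obtain ⟨e, he⟩ := Semisimple.exists_intertwine (finrank F V) V (Dual F V) (g * y) y.dualMap rfl
    ⟨pairPoly c, squarefree_pair hc hc2, hgych ▸ LinearMap.aeval_self_charpoly _⟩
    ⟨pairPoly c, squarefree_pair hc hc2, by
      have := LinearMap.aeval_self_charpoly y.dualMap
      rwa [charpoly_dualMap, hych] at this⟩
    (by rw [charpoly_dualMap, hgych, hych])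
  let L : Dual F V →ₗ[F] Dual F V := y.dualMap - LinearMap.id
  have hL : Function.Surjective L := by
    refine LinearMap.surjective_of_injective ((injective_iff_map_eq_zero L).2 fun w hw => ?_)
    by_contra hw0
    have h1 : y.dualMap.charpoly.IsRoot 1 := (Module.End.hasEigenvalue_iff_isRoot_charpoly _ 1).1
      (Module.End.hasEigenvalue_of_hasEigenvector (x := w) ⟨by
        rw [Module.End.mem_eigenspace_iff, one_smul]; exact sub_eq_zero.1 hw, hw0⟩)
    rw [charpoly_dualMap, hych] at h1
    simp [pairPoly, sub_eq_zero, eq_comm (a := (1 : F)), hc1, hci] at h1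
  obtain ⟨w, hw⟩ := hL (e X - Y.comp y)
  refine ⟨y, e, 1, w, one_ne_zero, by rw [hych, pow_zero, one_mul], fun d hd0 => ?_, fun x => he x, ?_,
    fun ψ => ?_⟩
  · have hd' : (c - 1) * (c - c⁻¹) ≠ 0 := mul_ne_zero (sub_ne_zero.2 hc1) (sub_ne_zero.2 hne)
    set k := (d - 1) / ((c - 1) * (c - c⁻¹))
    refine ⟨1 + C k * ((Polynomial.X - C 1) * (Polynomial.X - C c⁻¹)), by simp, ?_⟩
    rw [← LinearMap.det_toMatrix b,
      show LinearMap.toMatrix b b (aeval y (1 + C k * ((Polynomial.X - C 1) * (Polynomial.X - C c⁻¹)))) =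
        aeval ym (1 + C k * ((Polynomial.X - C 1) * (Polynomial.X - C c⁻¹))) by
      rw [← hym]; exact (aeval_algHom_apply (LinearMap.toMatrixAlgEquiv b).toAlgHom y _).symm]
    simp [ym, Matrix.det_fin_two, Matrix.mul_apply, Fin.sum_univ_two, Matrix.algebraMap_eq_diagonal]
    have : k * ((c - 1) * (c - c⁻¹)) = d - 1 := div_mul_cancel₀ _ hd'
    linear_combination this
  · rw [one_smul, ← sub_eq_iff_eq_add']
    exact hw.symm
  · obtain ⟨w', hw'⟩ := hL ψ
    exact ⟨0, w', by rw [zero_smul, zero_add]; exact hw'.symm⟩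

/-- The induction. -/
theorem rinv_all [Fintype F] (hq : 4 ≤ Fintype.card F) (c : F) (hc : c ≠ 0) (hc2 : c * c ≠ 1) :
    ∀ (k : ℕ) (V : Type u) [AddCommGroup V] [Module F V] [FiniteDimensional F V] (g : End F V),
    finrank F V = k + 2 → LinearMap.det g = 1 → (∀ a : F, g ≠ a • LinearMap.id) →
    (k = 0 ∨ 2 ≤ finrank F (LinearMap.range (g - LinearMap.id))) →
    ∀ (X : V) (Y : Dual F V), (1 ≤ k → X ≠ 0 ∧ Y ≠ 0) → RInv c k g X Y := by
  intro k
  induction k with
  | zero => exact fun V _ _ _ g hn hd hns _ X Y _ => rinv_two c hc hc2 g hn hd hns X Y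
  | succ k ih =>
    intro V _ _ _ g hn hd hns hr X Y hXY
    obtain ⟨hX0, hY0⟩ := hXY (by omega)
    have hne2 : Fintype.card F ≠ 2 := by omega
    obtain ⟨v, φ, hv, hgv, hX, hY, hns1, hr4, hnext⟩ :=
      exists_step g hd hns (by rw [if_neg hne2]; exact hr.resolve_left (by omega)) (Or.inl ⟨hq, by omega⟩)
        X hX0 Y hY0
    have hW : finrank F (LinearMap.ker φ) + 1 = finrank F V :=
      Module.Dual.finrank_ker_add_one_of_ne_zero (f := φ) (fun h => by simp [h] at hv)
    refine RInv.step g X Y v φ hv hgv hX hY (ih (LinearMap.ker φ) _ (by omega)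
      ((det_schur v φ hv g hgv).trans hd) hns1 ?_ _ _ fun h1 => ?_)
    · rcases Nat.eq_zero_or_pos k with h0 | h0
      · exact Or.inl h0
      · exact Or.inr (hr4 (by omega))
    · exact (hnext (Or.inl ⟨hq, by omega⟩)).2

theorem RInv.exists_pair {c : F} {k : ℕ} {g : End F V} {X : V} {Y : Dual F V} (hn : finrank F V = k + 2)
    (h : RInv c k g X Y) (hc : c ≠ 0) (hc2 : c * c ≠ 1) :
    ∃ y : End F V, IsReg c k y ∧ IsReg c k (g * y) ∧ DetFull y := by
  obtain ⟨y, e, a, w, -, hy, hQ, he, -, hfull⟩ := h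
  obtain ⟨M, hM⟩ : ∃ M : End F (Dual F V), M = y.dualMap - 1 := ⟨_, rfl⟩
  have hrk : finrank F (LinearMap.ker (y.dualMap - 1)) ≤ 1 := by
    show finrank F (LinearMap.ker ((y.dualMap - 1 : End F (Dual F V)))) ≤ 1
    rw [← hM]
    obtain ⟨S, hS⟩ : ∃ S : Submodule F (Dual F V), S = Submodule.span F {Y.comp y} := ⟨_, rfl⟩
    have htop : (⊤ : Submodule F (Dual F V)) ≤ S ⊔ LinearMap.range M := fun ψ _ => by
      obtain ⟨b, w', hw'⟩ := hfull ψ
      rw [hw']
      exact Submodule.add_mem_sup (hS ▸ Submodule.smul_mem _ b (Submodule.mem_span_singleton_self _))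
        ⟨w', by simp [hM, LinearMap.dualMap_apply']⟩
    have h1 := Submodule.finrank_mono htop
    have h2 := Submodule.finrank_add_le_finrank_add_finrank S
      (LinearMap.range M)
    have h3 := M.finrank_range_add_finrank_ker
    have h4 : finrank F S ≤ 1 := by
      rw [hS]; simpa using finrank_span_le_card ({Y.comp y} : Set (Dual F V))
    rw [finrank_top] at h1
    omega
  have hreg' : IsReg c k y.dualMap := ⟨by rw [charpoly_dualMap, hy], hrk⟩
  have hker : finrank F (LinearMap.ker (y - 1)) ≤ 1 := by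
    have e1 := (y - 1).finrank_range_add_finrank_ker
    have e2 := (y - 1).dualMap.finrank_range_add_finrank_ker
    have e3 := LinearMap.finrank_range_dualMap_eq_finrank_range (y - 1)
    have e4 : (y - 1).dualMap = M := by
      rw [hM]; exact LinearMap.ext fun ψ => LinearMap.ext fun x => by simp
    have e5 : finrank F (LinearMap.ker M) ≤ 1 := by rw [hM]; exact hrk
    rw [e4, Subspace.dual_finrank_eq] at e2
    rw [e4] at e3
    omega
  refine ⟨y, ⟨hy, hker⟩, hreg'.conj e.symm (fun x => ?_), hQ⟩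
  apply e.injective
  rw [LinearEquiv.apply_symm_apply, Module.End.mul_apply, he, LinearEquiv.apply_symm_apply]
  rfl

/-- An adapted decomposition for a vector and a covector killing it. -/
theorem exists_pair_equiv {u u' : V} {φ φ' : Dual F V} (hu : u ≠ 0) (hu' : u' ≠ 0) (hφ : φ ≠ 0) (hφ' : φ' ≠ 0)
    (h : φ u = 0) (h' : φ' u' = 0) : ∃ e : V ≃ₗ[F] V, e u = u' ∧ ∀ x, φ' (e x) = φ x := by
  have key : ∀ {u : V} {φ : Dual F V}, u ≠ 0 → φ ≠ 0 → φ u = 0 →
      ∃ (U : Submodule F V) (P : (F × F × U) ≃ₗ[F] V), P (1, 0, 0) = u ∧ (∀ z, φ (P z) = z.2.1) ∧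
        finrank F U + 2 = finrank F V := by
    intro u φ hu hφ h
    obtain ⟨a, ha⟩ : ∃ a, φ a = 1 := by
      obtain ⟨a, ha⟩ : ∃ a, φ a ≠ 0 := by
        by_contra hn; push Not at hn; exact hφ (LinearMap.ext hn)
      exact ⟨(φ a)⁻¹ • a, by simp [ha]⟩
    obtain ⟨μ0, hμ0⟩ := Module.Projective.exists_dual_ne_zero F hu
    let μ : Dual F V := (μ0 u)⁻¹ • μ0 - ((μ0 u)⁻¹ * μ0 a) • φ
    have hμu : μ u = 1 := by simp [μ, h, hμ0]
    have hμa : μ a = 0 := by simp [μ, ha]
    let U := LinearMap.ker φ ⊓ LinearMap.ker μ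
    let P : (F × F × U) ≃ₗ[F] V :=
      { toFun := fun z => z.1 • u + z.2.1 • a + (z.2.2 : V)
        map_add' := fun p q => by simp [add_smul]; abel
        map_smul' := fun s p => by simp [smul_add, mul_smul]
        invFun := fun x => (μ x, φ x, ⟨x - μ x • u - φ x • a, by
          simp [U, LinearMap.mem_ker, h, ha, hμu, hμa]⟩)
        left_inv := fun p => by
          obtain ⟨p1, p2, w, hw⟩ := p
          simp only [U, Submodule.mem_inf, LinearMap.mem_ker] at hw
          ext <;> simp [h, ha, hμu, hμa, hw.1, hw.2] <;> abel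
        right_inv := fun x => by simp }
    refine ⟨U, P, by simp [P], fun z => ?_, ?_⟩
    · obtain ⟨p1, p2, w, hw⟩ := z
      simp only [U, Submodule.mem_inf, LinearMap.mem_ker] at hw
      simp [P, h, ha, hw.1]
    · have := P.finrank_eq
      rw [Module.finrank_prod, Module.finrank_prod, Module.finrank_self] at this
      omega
  obtain ⟨U, P, hP1, hP2, hUd⟩ := key hu hφ h
  obtain ⟨U', P', hP1', hP2', hUd'⟩ := key hu' hφ' h'
  let d : U ≃ₗ[F] U' := LinearEquiv.ofFinrankEq U U' (by omega)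
  refine ⟨P.symm ≪≫ₗ (LinearEquiv.refl F F).prodCongr ((LinearEquiv.refl F F).prodCongr d) ≪≫ₗ P', ?_, fun x => ?_⟩
  · rw [← hP1]
    simp [hP1']
  · obtain ⟨z, rfl⟩ := P.surjective x
    simp [hP2, hP2']

variable [Fintype F]

/-- **Main theorem**: a nonscalar operator of determinant one is a quotient of two regular operators. -/
theorem exists_mul_reg (hq : 4 ≤ Fintype.card F) (c : F) (hc : c ≠ 0) (hc2 : c * c ≠ 1) {k : ℕ} (g : End F V)
    (hn : finrank F V = k + 2) (hd : LinearMap.det g = 1) (hns : ∀ a : F, g ≠ a • LinearMap.id) :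
    ∃ y : End F V, IsReg c k y ∧ IsReg c k (g * y) ∧ DetFull y := by
  haveI : Nontrivial V := Module.nontrivial_of_finrank_pos (R := F) (by omega)
  obtain ⟨X, hX⟩ := exists_ne (0 : V)
  obtain ⟨Y, hY⟩ := exists_ne (0 : Dual F V)
  rcases Nat.eq_zero_or_pos k with hk | hk
  · exact (rinv_all hq c hc hc2 k V g hn hd hns (Or.inl hk) X Y fun _ => ⟨hX, hY⟩).exists_pair hn hc hc2
  by_cases hr : 2 ≤ finrank F (LinearMap.range (g - LinearMap.id))
  · exact (rinv_all hq c hc hc2 k V g hn hd hns (Or.inr hr) X Y fun _ => ⟨hX, hY⟩).exists_pair hn hc hc2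
  -- `g` is a transvection
  obtain ⟨hc1, hci, hne⟩ := ne_of_pair hc hc2
  set N := g - LinearMap.id with hN
  obtain ⟨z, hz⟩ : ∃ z, N z ≠ 0 := by
    by_contra hall
    push Not at hall
    exact hns 1 (by rw [one_smul]; exact sub_eq_zero.1 (LinearMap.ext hall))
  set u := N z with hu
  have hspan : LinearMap.range N = Submodule.span F {u} :=
    (Submodule.eq_of_le_of_finrank_le ((Submodule.span_singleton_le_iff_mem _ _).2 (LinearMap.mem_range_self N z))
      (by rw [finrank_span_singleton hz]; omega)).symm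
  obtain ⟨ψ, hψ⟩ : ∃ ψ : Dual F V, ψ u = 1 := by
    obtain ⟨ψ, hψ⟩ := Module.Projective.exists_dual_ne_zero F hz
    exact ⟨(ψ u)⁻¹ • ψ, by simp [hψ]⟩
  set φ0 := ψ.comp N with hφ0d
  have hNf : ∀ x, N x = φ0 x • u := fun x => by
    obtain ⟨a, ha⟩ := Submodule.mem_span_singleton.1 (hspan.le (LinearMap.mem_range_self N x))
    rw [hφ0d, LinearMap.comp_apply, ← ha, map_smul, hψ, smul_eq_mul, mul_one]
  have hgeq : g = LinearMap.transvection φ0 u := LinearMap.ext fun x => by
    rw [LinearMap.transvection.apply, ← hNf, hN]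
    simp
  have hφu : φ0 u = 0 := by
    rwa [hgeq, LinearMap.transvection.det, add_eq_left] at hd
  have hφ0 : φ0 ≠ 0 := fun h0 => hz (by rw [hu, hNf, h0, LinearMap.zero_apply, zero_smul])
  -- a regular operator, moved onto the transvection
  let b := (Module.finBasis F V).reindex (finCongr hn)
  obtain ⟨i0, i1, i2, h01⟩ : ∃ i0 i1 i2 : Fin (k + 2), i0 ≠ i1 ∧ i0 ≠ i2 ∧ i1 ≠ i2 :=
    ⟨⟨0, by omega⟩, ⟨1, by omega⟩, ⟨2, by omega⟩, by simp [Fin.ext_iff], by simp [Fin.ext_iff],
      by simp [Fin.ext_iff]⟩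
  classical
  let d0 : Fin (k + 2) → F := fun i => if i = i0 then c else if i = i1 then c⁻¹ else 1
  let g0 : End F V := Matrix.toLin b b (Matrix.diagonal d0)
  have hg0 : ∀ i, g0 (b i) = d0 i • b i := fun i => by
    simp [g0, Matrix.toLin_self, Matrix.diagonal_apply, ite_smul, Finset.sum_ite_eq']
  have hd0 : LinearMap.det g0 = 1 := by
    rw [LinearMap.det_toLin, Matrix.det_diagonal, ← Finset.mul_prod_erase _ _ (Finset.mem_univ i0),
      ← Finset.mul_prod_erase _ _ (Finset.mem_erase.2 ⟨h01.1.symm, Finset.mem_univ i1⟩),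
      Finset.prod_eq_one]
    · simp [d0, h01.1.symm, hc]
    · intro i hi
      simp only [Finset.mem_erase] at hi
      simp [d0, hi.1, hi.2.1]
  have hns0 : ∀ a : F, g0 ≠ a • LinearMap.id := fun a ha => by
    have e0 := hg0 i0
    have e1 := hg0 i1
    simp only [ha, LinearMap.smul_apply, LinearMap.id_apply, d0, if_true, if_neg h01.1.symm] at e0 e1
    exact hne ((smul_left_injective F (b.ne_zero i0) e0).symm.trans (smul_left_injective F (b.ne_zero i1) e1))
  have hr0 : 2 ≤ finrank F (LinearMap.range (g0 - LinearMap.id)) := by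
    have hli : LinearIndependent F ![b i0, b i1] := by
      have := b.linearIndependent.comp ![i0, i1] (by
        intro a a' haa
        have h10 := h01.1.symm
        have h0 := h01.1
        fin_cases a <;> fin_cases a' <;> simp at haa ⊢ <;>
          first | exact absurd haa h0 | exact absurd haa h10)
      convert this using 1
      ext a; fin_cases a <;> rfl
    have hle : Submodule.span F (Set.range ![b i0, b i1]) ≤ LinearMap.range (g0 - LinearMap.id) := by
      rw [Submodule.span_le]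
      rintro _ ⟨a, rfl⟩
      fin_cases a
      · exact ⟨(c - 1)⁻¹ • b i0, by
          rw [map_smul, LinearMap.sub_apply, hg0, LinearMap.id_apply]
          simp only [d0, if_true]
          rw [show c • b i0 - b i0 = (c - 1) • b i0 by rw [sub_smul, one_smul], smul_smul,
            inv_mul_cancel₀ (sub_ne_zero.2 hc1), one_smul]
          rfl⟩
      · exact ⟨(c⁻¹ - 1)⁻¹ • b i1, by
          rw [map_smul, LinearMap.sub_apply, hg0, LinearMap.id_apply]
          simp only [d0, if_neg h01.1.symm, if_true]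
          rw [show c⁻¹ • b i1 - b i1 = (c⁻¹ - 1) • b i1 by rw [sub_smul, one_smul], smul_smul,
            inv_mul_cancel₀ (sub_ne_zero.2 hci), one_smul]
          rfl⟩
    have := Submodule.finrank_mono hle
    rwa [finrank_span_eq_card hli, Fintype.card_fin] at this
  obtain ⟨y0, hy0, -, hQ0⟩ :=
    (rinv_all hq c hc hc2 k V g0 hn hd0 hns0 (Or.inr hr0) X Y fun _ => ⟨hX, hY⟩).exists_pair hn hc hc2
  obtain ⟨w, hw⟩ := ((Module.End.hasEigenvalue_iff_isRoot_charpoly y0 c).2 (by
    simp [hy0.charpoly_eq, pairPoly])).exists_hasEigenvector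
  obtain ⟨ψ', hψ'⟩ := ((Module.End.hasEigenvalue_iff_isRoot_charpoly y0.dualMap c⁻¹).2 (by
    simp [charpoly_dualMap, hy0.charpoly_eq, pairPoly])).exists_hasEigenvector
  have hψy : ∀ x, ψ' (y0 x) = c⁻¹ * ψ' x := fun x => LinearMap.congr_fun hψ'.apply_eq_smul x
  have hψw : ψ' w = 0 := by
    have := hψy w
    rw [hw.apply_eq_smul, map_smul, smul_eq_mul, mul_eq_mul_right_iff] at this
    exact this.resolve_left hne
  obtain ⟨e, he1, he2⟩ := exists_pair_equiv hw.2 hz hψ'.2 hφ0 hψw hφu
  let y : End F V := e.conj y0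
  have hye : ∀ x, e (y0 x) = y (e x) := fun x => by simp [y, LinearEquiv.conj_apply_apply]
  have hy : IsReg c k y := hy0.conj e hye
  have hyu : y u = c • u := by
    rw [← he1, ← hye, hw.apply_eq_smul, map_smul]
  have hφy : ∀ x, φ0 (y x) = c⁻¹ * φ0 x := fun x => by
    obtain ⟨x, rfl⟩ := e.surjective x
    rw [← hye, he2, he2, hψy]
  refine ⟨y, hy, ?_, hQ0.conj e hye⟩
  set γ := c⁻¹ / (c⁻¹ - c) with hγ
  have hs : LinearMap.det (LinearMap.transvection (γ • φ0) u) = 1 := by
    rw [LinearMap.transvection.det]; simp [hφu]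
  let s : V ≃ₗ[F] V := LinearEquiv.ofBijective (LinearMap.transvection (γ • φ0) u) (by
    have hinj : Function.Injective (LinearMap.transvection (γ • φ0) u) := by
      rw [injective_iff_map_eq_zero]
      intro x hx
      rw [LinearMap.transvection.apply] at hx
      have h0 : φ0 x = 0 := by simpa [hφu] using congrArg φ0 hx
      simpa [h0] using hx
    exact ⟨hinj, LinearMap.injective_iff_surjective.1 hinj⟩)
  refine hy.conj s (fun x => ?_)
  have hcc : c⁻¹ - c ≠ 0 := sub_ne_zero.2 hne.symm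
  show LinearMap.transvection (γ • φ0) u (y x) = g (y (LinearMap.transvection (γ • φ0) u x))
  simp only [hgeq, LinearMap.transvection.apply, LinearMap.smul_apply, map_add, map_smul, hyu, hφy, hφu,
    smul_eq_mul, mul_zero, zero_smul, add_zero]
  rw [hγ]
  have h12 : 1 - c ^ 2 ≠ 0 := fun h0 => hc2 (by linear_combination -h0)
  match_scalars <;> field_simp <;> ring

end Cfsg.Agent.Commutator.Regular
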