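import Cfsg.Agent.Lib.Semisimple.Basic

/-!
Scalar matrices of determinant one are commutators in `SL`.
-/

set_option autoImplicit false

open Polynomial Matrix

namespace Cfsg.Agent.Commutator

universe u

variable {F : Type u} [Field F] [Finite F]

theorem exists_pair (d : ℕ) (hd : 0 < d) (ζ : F) (hζ : ζ ^ d = 1) (hdF : (d : F) ≠ 0) :
    ∃ A B : Matrix (Fin d) (Fin d) F, A.det = 1 ∧ B.det = 1 ∧ A * B = ζ • (B * A) := by
  set e : F := (-1) ^ (d + 1)
  have he : e ≠ 0 := pow_ne_zero _ (neg_ne_zero.2 one_ne_zero)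
  set P : F[X] := Polynomial.X ^ d - C e with hP
  have hPm : P.Monic := monic_X_pow_sub_C e hd.ne'
  have hPd : P.natDegree = d := natDegree_X_pow_sub_C
  haveI := Semisimple.finite_adjoinRoot hPm
  have hroot : AdjoinRoot.root P ^ d = algebraMap F (AdjoinRoot P) e := by
    rw [← sub_eq_zero]
    simpa [P] using AdjoinRoot.eval₂_root P
  have gen : ∀ {S : Type u} [CommRing S] [Algebra F S] (x : S),
      aeval x (Polynomial.X ^ d - C e : F[X]) = x ^ d - algebraMap F S e := fun x => by simp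
  have lift : ∀ η : F, η ^ d = 1 → P.eval₂ (Algebra.ofId F (AdjoinRoot P) : F →+* AdjoinRoot P)
      (algebraMap F (AdjoinRoot P) η * AdjoinRoot.root P) = 0 := by
    intro η hη
    refine (gen _).trans ?_
    rw [mul_pow, ← map_pow, hη, map_one, one_mul, hroot, sub_self]
  let φ := AdjoinRoot.liftAlgHom P (Algebra.ofId F (AdjoinRoot P)) (algebraMap F (AdjoinRoot P) ζ * AdjoinRoot.root P)
    (lift ζ hζ)
  have hζ' : ζ⁻¹ ^ d = 1 := by rw [inv_pow, hζ, inv_one]
  let ψ := AdjoinRoot.liftAlgHom P (Algebra.ofId F (AdjoinRoot P)) (algebraMap F (AdjoinRoot P) ζ⁻¹ * AdjoinRoot.root P)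
    (lift ζ⁻¹ hζ')
  have hζ0 : ζ ≠ 0 := fun h => by rw [h, zero_pow hd.ne'] at hζ; exact zero_ne_one hζ
  have hφψ : φ.comp ψ = AlgHom.id F _ := AdjoinRoot.algHom_ext (by
    simp only [AlgHom.comp_apply, AlgHom.id_apply, ψ, AdjoinRoot.liftAlgHom_root]
    rw [map_mul, AlgHom.commutes]
    simp only [φ, AdjoinRoot.liftAlgHom_root]
    rw [← mul_assoc, ← map_mul, inv_mul_cancel₀ hζ0, map_one, one_mul])
  let b := Module.finBasisOfFinrankEq F (AdjoinRoot P) (show _ = d by rw [Semisimple.finrank_adjoinRoot hPm, hPd])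
  set B := LinearMap.toMatrix b b (Semisimple.rootMul P) with hB
  set A0 := LinearMap.toMatrix b b φ.toLinearMap with hA0
  have hBc : B.charpoly = P := by rw [hB, LinearMap.charpoly_toMatrix, Semisimple.charpoly_rootMul P hPm]
  have hBd : B.det = 1 := by
    rw [Matrix.det_eq_sign_charpoly_coeff, hBc, Fintype.card_fin]
    rw [hP, coeff_sub, coeff_X_pow, if_neg hd.ne, coeff_C_zero, zero_sub]
    simp [e, pow_succ, ← mul_assoc, ← mul_pow]
  have hAB : A0 * B = ζ • (B * A0) := by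
    rw [hA0, hB, ← LinearMap.toMatrix_comp b b b, ← LinearMap.toMatrix_comp b b b, ← map_smul]
    congr 1
    refine LinearMap.ext fun x => ?_
    simp [Semisimple.rootMul, φ, mul_assoc, Algebra.smul_def]
  have hA0d : A0.det ≠ 0 := by
    intro h0
    have h1 : A0 * LinearMap.toMatrix b b ψ.toLinearMap = 1 := by
      rw [hA0, ← LinearMap.toMatrix_comp b b b, ← LinearMap.toMatrix_id b]
      exact congrArg _ (congrArg AlgHom.toLinearMap hφψ)
    have := congrArg Matrix.det h1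
    rw [det_mul, h0, zero_mul, det_one] at this
    exact zero_ne_one this
  obtain ⟨z, hz, hzd⟩ := Semisimple.exists_commute_det hd B
    ⟨P, (separable_X_pow_sub_C e hdF he).squarefree, hBc ▸ Matrix.aeval_self_charpoly B⟩ (inv_ne_zero hA0d)
  refine ⟨A0 * z, B, by rw [det_mul, hzd, mul_inv_cancel₀ hA0d], hBd, ?_⟩
  rw [mul_assoc, hz.eq, ← mul_assoc, hAB, smul_mul_assoc, mul_assoc]

/-- A scalar in `SL` is a commutator. -/
theorem scalar_commutator [Fintype F] (n : ℕ) (g : Matrix.SpecialLinearGroup (Fin n) F) (ζ : F)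
    (hg : (g : Matrix (Fin n) (Fin n) F) = ζ • 1) :
    ∃ a b : Matrix.SpecialLinearGroup (Fin n) F, g = a * b * a⁻¹ * b⁻¹ := by
  classical
  have hn : ζ ^ n = 1 := by
    have := g.2
    rw [hg, det_smul, det_one, mul_one, Fintype.card_fin] at this
    exact this
  rcases Nat.eq_zero_or_pos n with rfl | hn0
  · exact ⟨1, 1, Subsingleton.elim _ _⟩
  have hζ0 : ζ ≠ 0 := fun h => by rw [h, zero_pow hn0.ne'] at hn; exact zero_ne_one hn
  obtain ⟨d, hd⟩ : ∃ d, orderOf ζ = d := ⟨_, rfl⟩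
  obtain ⟨k, rfl⟩ : d ∣ n := hd ▸ orderOf_dvd_of_pow_eq_one hn
  have hd0 : 0 < d := Nat.pos_of_mul_pos_right hn0
  have hdF : (d : F) ≠ 0 := by
    intro h
    obtain ⟨p, hchar⟩ := CharP.exists F
    haveI := hchar
    obtain ⟨m, hp, hcard⟩ := FiniteField.card F p
    have h1 : p ∣ d := (CharP.cast_eq_zero_iff F p d).1 h
    have h2 : d ∣ Fintype.card F - 1 := hd ▸ orderOf_dvd_of_pow_eq_one (FiniteField.pow_card_sub_one_eq_one ζ hζ0)
    have h3 : p ∣ Fintype.card F := hcard ▸ dvd_pow_self p m.pos.ne'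
    have h4 := Nat.dvd_sub h3 (h1.trans h2)
    rw [Nat.sub_sub_self Fintype.card_pos] at h4
    exact hp.not_dvd_one h4
  obtain ⟨A, B, hA, hB, hAB⟩ := exists_pair d hd0 ζ (hd ▸ pow_orderOf_eq_one ζ) hdF
  let T : Matrix (Fin d) (Fin d) F → Matrix (Fin (d * k)) (Fin (d * k)) F :=
    fun M => Matrix.reindex finProdFinEquiv finProdFinEquiv (Matrix.blockDiagonal fun _ : Fin k => M)
  have hdet : ∀ M, (T M).det = M.det ^ k := fun M => by
    simp [T, Matrix.det_blockDiagonal]
  have hmul : ∀ M N, T M * T N = T (M * N) := fun M N => by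
    simp only [T, Matrix.blockDiagonal_mul, Matrix.reindex_apply, Matrix.submatrix_mul_equiv]
  have hsmul : ∀ (c : F) M, T (c • M) = c • T M := fun c M => by
    ext i j
    simp [T, Matrix.blockDiagonal_apply]
  let a : Matrix.SpecialLinearGroup (Fin (d * k)) F := ⟨T A, by rw [hdet, hA, one_pow]⟩
  let b : Matrix.SpecialLinearGroup (Fin (d * k)) F := ⟨T B, by rw [hdet, hB, one_pow]⟩
  have key : a * b = g * (b * a) := Subtype.ext <| by
    show T A * T B = (g : Matrix _ _ F) * (T B * T A)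
    rw [hg, smul_mul_assoc, one_mul, hmul, hmul, ← hsmul, hAB]
  exact ⟨a, b, by rw [key]; group⟩

end Cfsg.Agent.Commutator
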