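import Cfsg.Agent.Lib.Commutator.Step
import Cfsg.Agent.Lib.Semisimple.Basic

/-!
Operators which are commutators for elementary reasons, and the reduction to dimension three.
-/

set_option autoImplicit false

open Module Submodule

namespace Cfsg.Agent.Commutator

universe u

variable {F : Type u} [Field F] {V : Type u} [AddCommGroup V] [Module F V] [FiniteDimensional F V]

/-- `g` is a commutator of two operators of determinant one. -/
def Comm (g : End F V) : Prop :=
  ∃ A B : End F V, LinearMap.det A = 1 ∧ LinearMap.det B = 1 ∧ g * (B * A) = A * B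

theorem Comm.exists_sl {n : ℕ} (b : Basis (Fin n) F V) (g : Matrix.SpecialLinearGroup (Fin n) F)
    (h : Comm (Matrix.toLin b b (g : Matrix (Fin n) (Fin n) F))) :
    ∃ a c : Matrix.SpecialLinearGroup (Fin n) F, g = a * c * a⁻¹ * c⁻¹ := by
  obtain ⟨A, B, hA, hB, hAB⟩ := h
  let a : Matrix.SpecialLinearGroup (Fin n) F := ⟨LinearMap.toMatrix b b A, by rw [LinearMap.det_toMatrix, hA]⟩
  let c : Matrix.SpecialLinearGroup (Fin n) F := ⟨LinearMap.toMatrix b b B, by rw [LinearMap.det_toMatrix, hB]⟩
  have key : g * (c * a) = a * c := Subtype.ext <| by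
    show (g : Matrix (Fin n) (Fin n) F) * (LinearMap.toMatrix b b B * LinearMap.toMatrix b b A) =
      LinearMap.toMatrix b b A * LinearMap.toMatrix b b B
    rw [← LinearMap.toMatrix_mul, ← LinearMap.toMatrix_mul, ← hAB, LinearMap.toMatrix_mul b (Matrix.toLin b b _),
      LinearMap.toMatrix_toLin]
  exact ⟨a, c, by rw [← key]; group⟩

theorem comm_of_sl {n : ℕ} (b : Basis (Fin n) F V) (g : End F V) (hd : LinearMap.det g = 1)
    (h : ∀ G : Matrix.SpecialLinearGroup (Fin n) F, Matrix.toLin b b (G : Matrix (Fin n) (Fin n) F) = g →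
      ∃ a c : Matrix.SpecialLinearGroup (Fin n) F, G = a * c * a⁻¹ * c⁻¹) : Comm g := by
  let G : Matrix.SpecialLinearGroup (Fin n) F := ⟨LinearMap.toMatrix b b g, by rw [LinearMap.det_toMatrix, hd]⟩
  obtain ⟨a, c, hac⟩ := h G (Matrix.toLin_toMatrix b b g)
  refine ⟨Matrix.toLin b b a, Matrix.toLin b b c, by rw [LinearMap.det_toLin]; exact a.2,
    by rw [LinearMap.det_toLin]; exact c.2, (LinearMap.toMatrix b b).injective ?_⟩
  have := congrArg Subtype.val (show G * (c * a) = a * c by rw [hac]; group)
  change LinearMap.toMatrix b b g * ((c : Matrix (Fin n) (Fin n) F) * (a : Matrix (Fin n) (Fin n) F)) =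
    (a : Matrix (Fin n) (Fin n) F) * (c : Matrix (Fin n) (Fin n) F) at this
  simpa [LinearMap.toMatrix_mul] using this

/-- A nonidentity unipotent of square zero. -/
theorem comm_of_sq_zero (g : End F V) (h3 : 3 ≤ finrank F V)
    (hsq : ∀ z, (g - LinearMap.id : End F V) ((g - LinearMap.id : End F V) z) = 0) : Comm g := by
  classical
  set N := g - LinearMap.id with hN
  set K := LinearMap.ker N with hK
  obtain ⟨C, hC⟩ := Submodule.exists_isCompl K
  have hk2 : 2 ≤ finrank F K := by
    have h1 := LinearMap.finrank_range_add_finrank_ker N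
    have h2 : finrank F (LinearMap.range N) ≤ finrank F K := Submodule.finrank_mono (by
      rintro _ ⟨z, rfl⟩; exact hsq z)
    change _ + finrank F K = _ at h1
    omega
  obtain ⟨k, hk⟩ : ∃ k, finrank F K = k + 2 := ⟨finrank F K - 2, by omega⟩
  -- a fixed point free operator of determinant one on `K`
  obtain ⟨a0, ha0d, ha0⟩ : ∃ a0 : End F K, LinearMap.det a0 = 1 ∧ ∀ z, a0 z = z → z = 0 := by
    set s : F := (-1) ^ (k + 2)
    obtain ⟨c, hc⟩ : ∃ c : F, 1 + c + s ≠ 0 := by
      by_cases h : 1 + s = 0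
      · exact ⟨1, by rw [show (1 : F) + 1 + s = 1 + (1 + s) by ring, h, add_zero]; exact one_ne_zero⟩
      · exact ⟨0, by rwa [add_zero]⟩
    set P : Polynomial F := Polynomial.X ^ (k + 2) + (Polynomial.C c * Polynomial.X + Polynomial.C s) with hP
    have hdeg : (Polynomial.C c * Polynomial.X + Polynomial.C s).degree < ((k + 2 : ℕ) : WithBot ℕ) := by
      refine lt_of_le_of_lt (Polynomial.degree_linear_le) ?_
      exact_mod_cast (by omega : 1 < k + 2)
    have hPm : P.Monic := Polynomial.monic_X_pow_add hdeg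
    have hPd : P.natDegree = k + 2 := by
      apply Polynomial.natDegree_eq_of_degree_eq_some
      rw [hP, Polynomial.degree_add_eq_left_of_degree_lt (by rwa [Polynomial.degree_X_pow]), Polynomial.degree_X_pow]
    obtain ⟨M, hM, -⟩ := Semisimple.exists_ss_charpoly (k + 2) P hPm hPd
    let b := Module.finBasisOfFinrankEq F K hk
    refine ⟨Matrix.toLin b b M, ?_, fun z hz => ?_⟩
    · rw [LinearMap.det_toLin, Matrix.det_eq_sign_charpoly_coeff, hM, Fintype.card_fin]
      rw [hP, Polynomial.coeff_add, Polynomial.coeff_add, Polynomial.coeff_X_pow, if_neg (by omega),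
        Polynomial.coeff_C_mul, Polynomial.coeff_X_zero, Polynomial.coeff_C_zero, mul_zero, zero_add, zero_add,
        ← mul_pow, neg_one_mul, neg_neg, one_pow]
    · by_contra hz0
      have h := (Module.End.hasEigenvalue_iff_isRoot_charpoly _ 1).1
        (Module.End.hasEigenvalue_of_hasEigenvector (f := (Matrix.toLin b b M : End F K)) (x := z)
          ⟨Module.End.mem_eigenspace_iff.2 (by rw [hz, one_smul]), hz0⟩)
      rw [← LinearMap.charpoly_toMatrix _ b, LinearMap.toMatrix_toLin, hM, Polynomial.IsRoot] at h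
      simp [P] at h
      exact hc (by linear_combination h)
  have hbij : Function.Bijective (a0 - LinearMap.id : End F K) := by
    have hi : Function.Injective (a0 - LinearMap.id : End F K) :=
      (injective_iff_map_eq_zero _).2 fun z hz => ha0 z (sub_eq_zero.1 hz)
    exact ⟨hi, LinearMap.surjective_of_injective hi⟩
  let e := LinearEquiv.ofBijective (a0 - LinearMap.id : End F K) hbij
  let N0 : V →ₗ[F] K := N.codRestrict K fun z => hsq z
  let P := (K.prodEquivOfIsCompl C hC)
  let A : End F V := (P : (K × C) →ₗ[F] V) ∘ₗ a0.prodMap LinearMap.id ∘ₗ (P.symm : V →ₗ[F] K × C)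
  let N' : End F V := K.subtype ∘ₗ (e.symm : K →ₗ[F] K) ∘ₗ N0
  have hAK : ∀ z : K, A z = a0 z := fun z => by
    simp [A, P, Submodule.prodEquivOfIsCompl_symm_apply_left]
  have hNK : ∀ z : K, N z = 0 := fun z => z.2
  have hN'K : ∀ z : K, N' z = 0 := fun z => by
    have : N0 z = 0 := Subtype.ext (hNK z)
    simp [N', this]
  have hAc : ∀ z : V, ∃ t : K, A z - z = t := fun z => by
    obtain ⟨⟨x, y⟩, rfl⟩ := P.surjective z
    exact ⟨a0 x - x, by simp [A, P]⟩
  have hN'val : ∀ z, N' z = e.symm (N0 z) := fun z => rfl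
  refine ⟨A, 1 + N', ?_, ?_, ?_⟩
  · show LinearMap.det ((P : (K × C) →ₗ[F] V) ∘ₗ a0.prodMap LinearMap.id ∘ₗ (P.symm : V →ₗ[F] K × C)) = 1
    rw [LinearMap.det_conj, LinearMap.det_prodMap, LinearMap.det_id, mul_one, ha0d]
  · have hnil : IsNilpotent (-N') := ⟨2, LinearMap.ext fun z => by
      simp only [pow_two, Module.End.mul_apply, LinearMap.neg_apply, map_neg, neg_neg, LinearMap.zero_apply]
      exact hN'K (e.symm (N0 z))⟩
    let b := Module.finBasis F V
    have h1 := Matrix.eval_charpoly (LinearMap.toMatrix b b (-N')) 1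
    rw [LinearMap.charpoly_toMatrix, hnil.charpoly_eq_X_pow_finrank, map_one, Polynomial.eval_pow, Polynomial.eval_X,
      one_pow, map_neg, sub_neg_eq_add, ← LinearMap.toMatrix_one b, ← map_add, LinearMap.det_toMatrix] at h1
    exact h1.symm
  · refine LinearMap.ext fun z => ?_
    obtain ⟨t, ht⟩ := hAc z
    have hg : ∀ x, g x = x + N x := fun x => by simp [hN]
    have hAz : A z = z + (t : V) := by rw [← ht]; abel
    have key : A (N' z) = N' z + N z := by
      rw [hN'val, hAK]
      have := congrArg Subtype.val (e.apply_symm_apply (N0 z))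
      simp only [e, LinearEquiv.ofBijective_apply, LinearMap.sub_apply, LinearMap.id_apply, Submodule.coe_sub] at this
      rw [show (N z) = ((N0 z : K) : V) from rfl, ← this]
      abel
    simp only [Module.End.mul_apply, LinearMap.add_apply, Module.End.one_apply, map_add, key]
    rw [hg (A z), hg (N' (A z)), hAz, map_add N', map_add N, hN'K, hNK, add_zero, add_zero, hN'val,
      hNK (e.symm (N0 z))]
    abel

/-- A commutator on a direct summand, the identity on the other. -/
theorem Comm.extend (g : End F V) {U W : Submodule F V} (h : IsCompl U W) (g0 : End F U)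
    (hU : ∀ x : U, g x = g0 x) (hW : ∀ x : W, g x = x) (hc : Comm g0) : Comm g := by
  obtain ⟨A, B, hA, hB, hAB⟩ := hc
  let P := U.prodEquivOfIsCompl W h
  let ext : End F U → End F V := fun f => (P : (U × W) →ₗ[F] V) ∘ₗ f.prodMap LinearMap.id ∘ₗ (P.symm : V →ₗ[F] U × W)
  have hdet : ∀ f, LinearMap.det (ext f) = LinearMap.det f := fun f => by
    show LinearMap.det ((P : (U × W) →ₗ[F] V) ∘ₗ f.prodMap LinearMap.id ∘ₗ (P.symm : V →ₗ[F] U × W)) = _
    rw [LinearMap.det_conj, LinearMap.det_prodMap, LinearMap.det_id, mul_one]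
  refine ⟨ext A, ext B, (hdet A).trans hA, (hdet B).trans hB, LinearMap.ext fun z => ?_⟩
  obtain ⟨⟨x, y⟩, rfl⟩ := P.surjective z
  have hh : ∀ (f : End F U) a b, ext f (P (a, b)) = P (f a, b) := fun f a b => by simp [ext]
  have := LinearMap.congr_fun hAB x
  simp only [Module.End.mul_apply] at this ⊢
  rw [hh, hh, hh, hh, Submodule.coe_prodEquivOfIsCompl', Submodule.coe_prodEquivOfIsCompl', map_add, hU, hW, this]

end Cfsg.Agent.Commutator
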