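import Cfsg.Agent.Lib.Commutator.Choice

/-!
The choice of the functional for the inductive step, by counting.
-/

set_option autoImplicit false

open Module Submodule

namespace Cfsg.Agent.Commutator

universe u

variable {F : Type u} [Field F] {V : Type u} [AddCommGroup V] [Module F V] [FiniteDimensional F V]

theorem card_annihilator [Fintype F] (U : Submodule F V) :
    Nat.card U.dualAnnihilator = Fintype.card F ^ (finrank F V - finrank F U) := by
  rw [Module.natCard_eq_pow_finrank (K := F), Nat.card_eq_fintype_card]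
  have := Subspace.finrank_add_finrank_dualAnnihilator_eq U
  congr 1
  omega

/-- Functionals with prescribed values on a subspace. -/
theorem ncard_le_of_eqOn [Fintype F] (S : Set (Dual F V)) (U : Submodule F V)
    (h : ∀ φ ∈ S, ∀ ψ ∈ S, ∀ z ∈ U, φ z = ψ z) :
    S.ncard ≤ Fintype.card F ^ (finrank F V - finrank F U) := by
  haveI : Finite (Dual F V) := Module.finite_of_finite F
  rcases S.eq_empty_or_nonempty with rfl | ⟨φ0, h0⟩
  · simp
  rw [← card_annihilator]
  refine (Set.ncard_le_ncard_of_injOn (t := (U.dualAnnihilator : Set (Dual F V))) (fun φ => φ - φ0)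
    (fun φ hφ => ?_) (fun a _ b _ hab => sub_left_inj.1 hab) (Set.toFinite _)).trans
      (le_of_eq (Nat.card_coe_set_eq _).symm)
  rw [SetLike.mem_coe, Submodule.mem_dualAnnihilator]
  intro z hz
  rw [LinearMap.sub_apply, h φ hφ φ0 h0 z hz, sub_self]

theorem ncard_affine_ge [Fintype F] (v w : V) (h : LinearIndependent F ![v, w]) :
    Fintype.card F ^ (finrank F V - 2) ≤ {φ : Dual F V | φ v = 1 ∧ φ w = 1}.ncard := by
  haveI : Finite (Dual F V) := Module.finite_of_finite F
  obtain ⟨φ0, hφ0⟩ := LinearMap.exists_extend ((Basis.span h).constr F fun _ => (1 : F))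
  have hval : ∀ i : Fin 2, φ0 (![v, w] i) = 1 := fun i => by
    have := LinearMap.congr_fun hφ0 (Basis.span h i)
    simpa [Basis.span_apply] using this
  have hU : finrank F (span F (Set.range ![v, w])) = 2 := by rw [finrank_span_eq_card h, Fintype.card_fin]
  rw [← hU, ← card_annihilator]
  refine (le_of_eq (Nat.card_coe_set_eq ((span F (Set.range ![v, w])).dualAnnihilator : Set (Dual F V)))).trans
    (Set.ncard_le_ncard_of_injOn (fun φ => φ0 + φ) (fun φ hφ => ?_) (fun a _ b _ hab => add_left_cancel hab)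
      (Set.toFinite _))
  rw [SetLike.mem_coe, Submodule.mem_dualAnnihilator] at hφ
  exact ⟨by rw [LinearMap.add_apply, hφ v (subset_span ⟨0, rfl⟩), add_zero]; exact hval 0,
    by rw [LinearMap.add_apply, hφ w (subset_span ⟨1, rfl⟩), add_zero]; exact hval 1⟩

theorem li_pair {g : End F V} {v : V} (hv : ∀ a : F, g v ≠ a • v) : LinearIndependent F ![v, g v] := by
  rw [LinearIndependent.pair_iff' (fun h : v = 0 => hv 0 (by simp [h]))]
  exact fun a => (hv a).symm

variable (v : V) (φ : Dual F V) (hv : φ v = 1)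

theorem schur_coe (g : End F V) (hgv : φ (g v) = 1) (w : LinearMap.ker φ) :
    (schur v φ hv g w : V) = g w - φ (g w) • g v := by
  simp only [schur, LinearMap.sub_apply, LinearMap.comp_apply, LinearMap.smulRight_apply,
    Submodule.coe_subtype, Submodule.coe_sub, Submodule.coe_smul, proj_coe, hgv, one_smul, smul_sub]
  abel

/-- Rank of the Schur complement. -/
theorem rank_schur (g : End F V) (hgv : φ (g v) = 1) :
    finrank F (LinearMap.range (g - LinearMap.id)) ≤
        finrank F (LinearMap.range (schur v φ hv g - LinearMap.id)) + 2 ∧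
      (v ∉ LinearMap.range (g - LinearMap.id) →
        finrank F (LinearMap.range (g - LinearMap.id)) ≤
          finrank F (LinearMap.range (schur v φ hv g - LinearMap.id)) + 1 ∧
        (∀ k, g k = k → φ k ≠ 0 →
          finrank F (LinearMap.range (g - LinearMap.id)) ≤
            finrank F (LinearMap.range (schur v φ hv g - LinearMap.id)))) := by
  set N := g - LinearMap.id with hN
  set R := (LinearMap.range (schur v φ hv g - LinearMap.id)).map (LinearMap.ker φ).subtype with hR
  have hRd : finrank F R = finrank F (LinearMap.range (schur v φ hv g - LinearMap.id)) :=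
    Submodule.finrank_map_subtype_eq _ _
  set NW := (LinearMap.ker φ).map N with hNW
  have hNWle : NW ≤ R ⊔ span F {g v} := by
    rintro _ ⟨w, hw, rfl⟩
    rw [show N w = (((schur v φ hv g - LinearMap.id : End F (LinearMap.ker φ)) ⟨w, hw⟩ : LinearMap.ker φ) : V) +
        φ (g w) • g v by
      simp only [hN, LinearMap.sub_apply, LinearMap.id_apply, Submodule.coe_sub, schur_coe v φ hv g hgv]
      abel]
    exact add_mem (mem_sup_left (mem_map_of_mem (LinearMap.mem_range_self _ _)))
      (mem_sup_right (smul_mem _ _ (mem_span_singleton_self _)))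
  have hNv : LinearMap.range N ≤ NW ⊔ span F {N v} := by
    rintro _ ⟨z, rfl⟩
    rw [decomp v φ hv z, map_add, map_smul, add_comm]
    exact add_mem (mem_sup_left (mem_map_of_mem (proj v φ hv z).2))
      (mem_sup_right (smul_mem _ _ (mem_span_singleton_self _)))
  have a1 := Submodule.finrank_mono hNWle
  have a2 := finrank_sup_singleton_le R (g v)
  have a3 := Submodule.finrank_mono hNv
  have a4 := finrank_sup_singleton_le NW (N v)
  refine ⟨by omega, fun hvim => ?_⟩
  have hgvim : g v ∉ LinearMap.range N := fun h => hvim (by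
    have := sub_mem h (LinearMap.mem_range_self N v)
    simpa [hN] using this)
  have hNWim : NW ≤ LinearMap.range N := LinearMap.map_le_range
  have a5 : finrank F NW + 1 ≤ finrank F R + 1 := by
    rw [← finrank_sup_singleton (fun h => hgvim (hNWim h) : g v ∉ NW)]
    exact (Submodule.finrank_mono (sup_le hNWle le_sup_right)).trans a2
  refine ⟨by omega, fun k hk hk0 => ?_⟩
  have hvmem : N v ∈ NW := by
    refine ⟨v - (φ k)⁻¹ • k, ?_, ?_⟩
    · rw [SetLike.mem_coe, LinearMap.mem_ker, map_sub, map_smul, hv, smul_eq_mul, inv_mul_cancel₀ hk0, sub_self]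
    · rw [map_sub, map_smul, show N k = 0 by simp [hN, hk], smul_zero, sub_zero]
  have : LinearMap.range N ≤ NW := hNv.trans (sup_le le_rfl ((span_singleton_le_iff_mem _ _).2 hvmem))
  have := Submodule.finrank_mono this
  omega

/-- At most one functional gives a scalar Schur complement. -/
theorem scalar_unique (g : End F V) (hginj : ∀ z, g z = 0 → z = 0) (v : V) (h3 : 3 ≤ finrank F V)
    (hno : ∀ a : F, g v ≠ a • v) (φ ψ : Dual F V) (hφv : φ v = 1) (hφg : φ (g v) = 1) (hψv : ψ v = 1)
    (hψg : ψ (g v) = 1) (a b : F) (ha : ∀ w, φ w = 0 → g w - φ (g w) • g v = a • w)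
    (hb : ∀ w, ψ w = 0 → g w - ψ (g w) • g v = b • w) : φ = ψ := by
  by_contra hne
  obtain ⟨w0, ⟨hw1, hw2⟩, hw00⟩ : ∃ w0, (φ w0 = 0 ∧ ψ w0 = 0) ∧ w0 ≠ 0 := by
    have e1 := Module.Dual.finrank_ker_add_one_of_ne_zero (f := φ) (fun h => by simp [h] at hφv)
    have e2 := Module.Dual.finrank_ker_add_one_of_ne_zero (f := ψ) (fun h => by simp [h] at hψv)
    have e3 := Submodule.finrank_sup_add_finrank_inf_eq (LinearMap.ker φ) (LinearMap.ker ψ)
    have e4 := Submodule.finrank_le (LinearMap.ker φ ⊔ LinearMap.ker ψ)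
    obtain ⟨w0, hw0, hw00⟩ := Submodule.exists_mem_ne_zero_of_ne_bot
      (p := LinearMap.ker φ ⊓ LinearMap.ker ψ) (fun h => by rw [h, finrank_bot] at e3; omega)
    exact ⟨w0, ⟨LinearMap.mem_ker.1 hw0.1, LinearMap.mem_ker.1 hw0.2⟩, hw00⟩
  have h1 := ha w0 hw1
  have h2 := hb w0 hw2
  have hab : a = b := by
    by_contra hab
    have h3 : (a - b) • w0 = (ψ (g w0) - φ (g w0)) • g v := by
      rw [sub_smul, ← h1, ← h2, sub_smul]; abel
    have h4 := congrArg φ h3
    rw [map_smul, map_smul, hw1, hφg, smul_zero, smul_eq_mul, mul_one] at h4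
    rw [← h4, zero_smul, smul_eq_zero, sub_eq_zero] at h3
    exact h3.elim hab hw00
  subst hab
  have ha0 : a ≠ 0 := by
    rintro rfl
    rw [zero_smul] at h1
    have h4 := hginj (w0 - φ (g w0) • v) (by rw [map_sub, map_smul, h1])
    have h5 := congrArg φ h4
    rw [map_sub, map_smul, hw1, hφv, map_zero, smul_eq_mul, mul_one, zero_sub, neg_eq_zero] at h5
    rw [h5, zero_smul, sub_zero] at h4
    exact hw00 h4
  have hwφ : ∀ w, φ w = 0 → g w - a • w ∈ span F {g v} := fun w hw =>
    Submodule.mem_span_singleton.2 ⟨φ (g w), by rw [← ha w hw]; abel⟩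
  have hwψ : ∀ w, ψ w = 0 → g w - a • w ∈ span F {g v} := fun w hw =>
    Submodule.mem_span_singleton.2 ⟨ψ (g w), by rw [← hb w hw]; abel⟩
  obtain ⟨z, hz⟩ : ∃ z, φ z = 0 ∧ ψ z ≠ 0 := by
    by_contra h
    push Not at h
    apply hne
    refine LinearMap.ext fun x => ?_
    have := h (x - φ x • v) (by simp [hφv])
    rw [map_sub, map_smul, hψv, smul_eq_mul, mul_one, sub_eq_zero] at this
    exact this.symm
  have hv' : g v - a • v ∈ span F {g v} := by
    have e1 : ψ (v - (ψ z)⁻¹ • z) = 0 := by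
      rw [map_sub, map_smul, hψv, smul_eq_mul, inv_mul_cancel₀ hz.2, sub_self]
    have e2 := add_mem (hwψ _ e1) (smul_mem _ (ψ z)⁻¹ (hwφ z hz.1))
    rwa [map_sub, map_smul, smul_sub, smul_sub, smul_comm a, sub_sub_sub_comm, sub_add_cancel] at e2
  obtain ⟨c, hc⟩ := Submodule.mem_span_singleton.1 hv'
  refine hno ((1 - c)⁻¹ * a) ?_
  have h6 : (1 - c) • g v = a • v := by rw [sub_smul, one_smul, hc]; abel
  have hc1 : 1 - c ≠ 0 := fun h => by
    rw [h, zero_smul, eq_comm, smul_eq_zero] at h6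
    exact h6.elim ha0 (fun h' => by simp [h'] at hφv)
  rw [mul_smul, ← h6, inv_smul_smul₀ hc1]

set_option maxHeartbeats 1000000 in
/-- The step: a vector and a functional. -/
theorem exists_step [Fintype F] (g : End F V) (hd : LinearMap.det g = 1)
    (hns : ∀ a : F, g ≠ a • LinearMap.id)
    (hr : (if Fintype.card F = 2 then 3 else 2) ≤ finrank F (LinearMap.range (g - LinearMap.id)))
    (hn : (4 ≤ Fintype.card F ∧ 3 ≤ finrank F V) ∨ 4 ≤ finrank F V)
    (X : V) (hX : X ≠ 0) (Y : Dual F V) (hY : Y ≠ 0) :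
    ∃ (v : V) (φ : Dual F V) (hv : φ v = 1), φ (g v) = 1 ∧ φ X ≠ 0 ∧ Y v ≠ 0 ∧
      (∀ a : F, schur v φ hv g ≠ a • LinearMap.id) ∧
      (4 ≤ finrank F V → 2 ≤ finrank F (LinearMap.range (schur v φ hv g - LinearMap.id))) ∧
      ((4 ≤ Fintype.card F ∧ 4 ≤ finrank F V) ∨ 5 ≤ finrank F V →
        (if Fintype.card F = 2 then 3 else 2) ≤ finrank F (LinearMap.range (schur v φ hv g - LinearMap.id)) ∧
          proj v φ hv (g v) ≠ 0 ∧ (φ.comp g).comp (LinearMap.ker φ).subtype ≠ 0) := by
  classical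
  haveI : Finite (Dual F V) := Module.finite_of_finite F
  set q := Fintype.card F with hq'
  set n := finrank F V with hn'
  have hn3 : 3 ≤ n := by omega
  set N := g - LinearMap.id with hN
  have hNa : ∀ z, N z = g z - z := fun z => rfl
  set r := finrank F (LinearMap.range N) with hr'
  obtain ⟨v, hYv, hXv, hnoeig, hvim, hspec⟩ := exists_vec g hd hns hn3 hr X Y hY
  have hq2 : 2 ≤ q := Fintype.one_lt_card
  have hr2 : 2 ≤ r := le_trans (by split_ifs <;> omega) hr
  have hrn : r ≤ n := Submodule.finrank_le _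
  have hli := li_pair hnoeig
  have hginj : ∀ z, g z = 0 → z = 0 := LinearMap.ker_eq_bot'.1 (by
    by_contra hk
    exact one_ne_zero (hd.symm.trans (LinearMap.det_eq_zero_iff_ker_ne_bot.2 hk)))
  have hvker : v ∉ LinearMap.ker N := fun h => hXv (by
    rw [← hNa, LinearMap.mem_ker.1 h]; exact zero_mem _)
  set A : Set (Dual F V) := {φ | φ v = 1 ∧ φ (g v) = 1} with hA
  set B1 : Set (Dual F V) := {φ | φ ∈ A ∧ φ X = 0}
  set B2 : Set (Dual F V) := {φ | φ ∈ A ∧ ∀ z, φ (N z) = 0}
  set B3 : Set (Dual F V) := {φ | φ ∈ A ∧ ∀ k, g k = k → φ k = 0}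
  set Bs : Set (Dual F V) := {φ | φ ∈ A ∧ ∃ a : F, ∀ w, φ w = 0 → g w - φ (g w) • g v = a • w}
  have hAge : q ^ (n - 2) ≤ A.ncard := ncard_affine_ge v (g v) hli
  -- B1
  have hb1 : B1.ncard ≤ q ^ (n - 3) := by
    by_cases hXs : X ∈ span F (Set.range ![v, g v])
    · rw [Matrix.range_cons, Matrix.range_cons, Matrix.range_empty, Set.union_empty, ← Set.insert_eq] at hXs
      obtain ⟨a, b, hab⟩ := Submodule.mem_span_pair.1 hXs
      have : B1 = ∅ := Set.eq_empty_of_forall_notMem fun φ ⟨⟨h1, h2⟩, h3⟩ => by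
        have h4 : a + b = 0 := by
          rw [← hab, map_add, map_smul, map_smul, h1, h2] at h3
          simpa using h3
        have h5 : X = b • (g v - v) := by
          rw [← hab, eq_neg_of_add_eq_zero_left h4, smul_sub, neg_smul]; abel
        rcases eq_or_ne b 0 with rfl | hb
        · exact hX (by rw [h5, zero_smul])
        · exact hXv (by rw [h5]; exact Submodule.mem_span_singleton.2 ⟨b⁻¹, by rw [smul_smul, inv_mul_cancel₀ hb, one_smul]⟩)
      simp [this]
    · have hU : finrank F ↥(span F (Set.range ![v, g v]) ⊔ span F {X}) = 3 := by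
        rw [finrank_sup_singleton hXs, finrank_span_eq_card hli, Fintype.card_fin]
      refine hU ▸ ncard_le_of_eqOn B1 (span F (Set.range ![v, g v]) ⊔ span F {X}) fun φ hφ ψ hψ z hz => ?_
      rw [← span_union] at hz
      refine LinearMap.eqOn_span (f := φ) (g := ψ) (fun x hx => ?_) hz
      rcases hx with ⟨i, rfl⟩ | rfl
      · fin_cases i
        · exact hφ.1.1.trans hψ.1.1.symm
        · exact hφ.1.2.trans hψ.1.2.symm
      · exact hφ.2.trans hψ.2.symm
  -- B2
  have hb2 : B2.ncard ≤ q ^ (n - (r + 1)) := by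
    by_cases hv : v ∈ LinearMap.range N
    · have : B2 = ∅ := Set.eq_empty_of_forall_notMem fun φ ⟨⟨h1, h2⟩, h3⟩ => by
        obtain ⟨z, hz⟩ := hv
        rw [← hz, h3 z] at h1
        exact zero_ne_one h1
      simp [this]
    · rw [← finrank_sup_singleton hv]
      refine ncard_le_of_eqOn B2 _ fun φ hφ ψ hψ z hz => ?_
      obtain ⟨a, ⟨a', rfl⟩, b, hb, rfl⟩ := Submodule.mem_sup.1 hz
      obtain ⟨c, rfl⟩ := Submodule.mem_span_singleton.1 hb
      rw [map_add, map_add, hφ.2, hψ.2, map_smul, map_smul, hφ.1.1, hψ.1.1]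
  have hkerd : finrank F (LinearMap.ker N) = n - r := by
    have := LinearMap.finrank_range_add_finrank_ker N
    omega
  have hkfix : ∀ k, k ∈ LinearMap.ker N ↔ g k = k := fun k => by
    rw [LinearMap.mem_ker, hNa, sub_eq_zero]
  -- B3
  have hb3 : B3.ncard ≤ q ^ (n - (n - r + 1)) := by
    rw [← hkerd, ← finrank_sup_singleton hvker]
    refine ncard_le_of_eqOn B3 _ fun φ hφ ψ hψ z hz => ?_
    obtain ⟨a, ha, b, hb, rfl⟩ := Submodule.mem_sup.1 hz
    obtain ⟨c, rfl⟩ := Submodule.mem_span_singleton.1 hb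
    rw [map_add, map_add, hφ.2 a ((hkfix a).1 ha), hψ.2 a ((hkfix a).1 ha), map_smul, map_smul, hφ.1.1, hψ.1.1]
  -- Bs
  have hbs : Bs.ncard ≤ 1 := by
    refine (Set.ncard_le_one (Set.toFinite _)).2 fun φ ⟨⟨hφv, hφg⟩, a, ha⟩ ψ ⟨⟨hψv, hψg⟩, b, hb⟩ => ?_
    exact scalar_unique g hginj v hn3 hnoeig φ ψ hφv hφg hψv hψg a b ha hb
  -- goodness
  have conclude : ∀ φ : Dual F V, ∀ (hv : φ v = 1), φ (g v) = 1 → φ ∉ B1 → φ ∉ Bs →
      φ X ≠ 0 ∧ (∀ a : F, schur v φ hv g ≠ a • LinearMap.id) ∧ proj v φ hv (g v) ≠ 0 ∧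
        (φ ∉ B2 → (φ.comp g).comp (LinearMap.ker φ).subtype ≠ 0) := by
    intro φ hv hgv h1 hs
    refine ⟨fun h => h1 ⟨⟨hv, hgv⟩, h⟩, fun a ha => hs ⟨⟨hv, hgv⟩, a, fun w hw => ?_⟩, fun h => ?_, fun h2 h => ?_⟩
    · have := congrArg Subtype.val (LinearMap.congr_fun ha ⟨w, hw⟩)
      rw [schur_coe v φ hv g hgv] at this
      simpa using this
    · have := congrArg Subtype.val h
      rw [proj_coe, hgv, one_smul, Submodule.coe_zero, sub_eq_zero] at this
      exact hvker ((hkfix v).2 this)
    · apply h2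
      refine ⟨⟨hv, hgv⟩, fun z => ?_⟩
      have h4 := LinearMap.congr_fun h (proj v φ hv z)
      rw [hNa]
      conv_lhs => rw [decomp v φ hv z]
      simp only [LinearMap.comp_apply, Submodule.coe_subtype, LinearMap.zero_apply] at h4
      rw [map_add g, map_smul g, map_sub, map_add φ, map_add φ, map_smul φ, map_smul φ, h4, hv, hgv,
        LinearMap.mem_ker.1 (proj v φ hv z).2, sub_self]
  have pick : ∀ Bad : Set (Dual F V), Bad.ncard < q ^ (n - 2) → ∃ φ, φ ∈ A ∧ φ ∉ Bad := fun Bad hB =>
    Set.exists_mem_notMem_of_ncard_lt_ncard (hB.trans_le hAge) (Set.toFinite _)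
  -- powers
  obtain ⟨j, hj⟩ : ∃ j, n = j + 3 := ⟨n - 3, by omega⟩
  have hp : q ^ (n - 2) = q * q ^ (n - 3) := by
    rw [show n - 2 = (n - 3) + 1 by omega, pow_succ, mul_comm]
  have hp' : 4 ≤ n → q ^ (n - 3) = q * q ^ (n - 4) := fun h => by
    rw [show n - 3 = (n - 4) + 1 by omega, pow_succ, mul_comm]
  have hpos : ∀ i, 1 ≤ q ^ i := fun i => Nat.one_le_pow _ _ (by omega)
  by_cases hmain : (4 ≤ q ∧ 4 ≤ n) ∨ 5 ≤ n
  · have hn4 : 4 ≤ n := by omega
    by_cases hspecial : q = 2 ∧ r = 3
    · obtain ⟨hq2', hr3⟩ := hspecial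
      have hn5 : 5 ≤ n := by omega
      obtain ⟨hvX, hvkX⟩ := hspec hq2' hr3 hn5
      have one : ∀ a : F, a ≠ 0 → a = 1 := by
        intro a ha
        by_contra ha1
        have : ({0, 1, a} : Finset F).card = 3 := by
          rw [Finset.card_insert_of_notMem (by simp [Ne.symm ha]), Finset.card_pair (Ne.symm ha1)]
        have := this ▸ Finset.card_le_univ ({0, 1, a} : Finset F)
        omega
      have hb2' : (B2 \ B1).ncard ≤ q ^ (n - 5) := by
        by_cases hXim : X ∈ LinearMap.range N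
        · have : B2 \ B1 = ∅ := Set.eq_empty_of_forall_notMem fun φ ⟨⟨hφ, h2⟩, h1⟩ => by
            obtain ⟨z, hz⟩ := hXim
            exact h1 ⟨hφ, hz ▸ h2 z⟩
          simp [this]
        · have hU : finrank F ↥(LinearMap.range N ⊔ span F {X} ⊔ span F {v}) = 5 := by
            rw [finrank_sup_singleton hvX, finrank_sup_singleton hXim, ← hr', hr3]
          refine hU ▸ ncard_le_of_eqOn _ (LinearMap.range N ⊔ span F {X} ⊔ span F {v}) fun φ hφ ψ hψ z hz => ?_
          obtain ⟨a, ha, b, hb, rfl⟩ := Submodule.mem_sup.1 hz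
          obtain ⟨c, rfl⟩ := Submodule.mem_span_singleton.1 hb
          obtain ⟨a1, ⟨a', rfl⟩, b1, hb1, rfl⟩ := Submodule.mem_sup.1 ha
          obtain ⟨c1, rfl⟩ := Submodule.mem_span_singleton.1 hb1
          simp only [map_add, map_smul, hφ.1.2, hψ.1.2, hφ.1.1.1, hψ.1.1.1,
            one _ (fun h => hφ.2 ⟨hφ.1.1, h⟩), one _ (fun h => hψ.2 ⟨hψ.1.1, h⟩)]
      have hb3' : (B3 \ B1).ncard ≤ q ^ 1 := by
        by_cases hXk : X ∈ LinearMap.ker N
        · have : B3 \ B1 = ∅ := Set.eq_empty_of_forall_notMem fun φ ⟨⟨hφ, h3⟩, h1⟩ => h1 ⟨hφ, h3 X ((hkfix X).1 hXk)⟩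
          simp [this]
        · have hU : n - finrank F ↥(LinearMap.ker N ⊔ span F {X} ⊔ span F {v}) = 1 := by
            rw [finrank_sup_singleton hvkX, finrank_sup_singleton hXk, hkerd, hr3]
            omega
          refine hU ▸ ncard_le_of_eqOn _ (LinearMap.ker N ⊔ span F {X} ⊔ span F {v}) fun φ hφ ψ hψ z hz => ?_
          obtain ⟨a, ha, b, hb, rfl⟩ := Submodule.mem_sup.1 hz
          obtain ⟨c, rfl⟩ := Submodule.mem_span_singleton.1 hb
          obtain ⟨a1, ha1, b1, hb1, rfl⟩ := Submodule.mem_sup.1 ha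
          obtain ⟨c1, rfl⟩ := Submodule.mem_span_singleton.1 hb1
          simp only [map_add, map_smul, hφ.1.2 a1 ((hkfix a1).1 ha1), hψ.1.2 a1 ((hkfix a1).1 ha1), hφ.1.1.1, hψ.1.1.1,
            one _ (fun h => hφ.2 ⟨hφ.1.1, h⟩), one _ (fun h => hψ.2 ⟨hψ.1.1, h⟩)]
      obtain ⟨φ, hφA, hφ⟩ := pick (B1 ∪ (B2 \ B1) ∪ (B3 \ B1)) (by
        have e1 := Set.ncard_union_le (B1 ∪ (B2 \ B1)) (B3 \ B1)
        have e2 := Set.ncard_union_le B1 (B2 \ B1)
        have e3 : q ^ (n - 3) = 4 * q ^ (n - 5) := by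
          rw [show n - 3 = (n - 5) + 2 by omega, pow_add, hq2', mul_comm]; norm_num
        have e4 := hpos (n - 5)
        rw [pow_one] at hb3'
        rw [hp, e3]
        rw [e3] at hb1
        rw [hq2'] at hb1 hb2' hb3' e4 ⊢
        omega)
      simp only [Set.mem_union, Set.mem_diff, not_or, not_and_not_right] at hφ
      obtain ⟨⟨h1, h2⟩, h3⟩ := hφ
      have hv := hφA.1
      have hk : ∃ k, g k = k ∧ φ k ≠ 0 := by
        by_contra h
        push Not at h
        exact h1 (h3 ⟨hφA, h⟩)
      obtain ⟨k, hk, hk0⟩ := hk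
      have hr1 := ((rank_schur v φ hv g hφA.2).2 (hvim (by change r < n; omega))).2 k hk hk0
      have hs : φ ∉ Bs := fun ⟨_, a, ha⟩ => by
        rcases eq_or_ne a 0 with rfl | ha0
        · have : ∀ w : LinearMap.ker φ, schur v φ hv g w = 0 := fun w => Subtype.ext (by
            rw [schur_coe v φ hv g hφA.2, ha w w.2, zero_smul]; rfl)
          have h0 : schur v φ hv g = 0 := LinearMap.ext this
          have hdet := det_schur v φ hv g hφA.2
          rw [h0, hd] at hdet
          haveI : Nontrivial (LinearMap.ker φ) := Module.nontrivial_of_finrank_pos (R := F) (by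
            have := Module.Dual.finrank_ker_add_one_of_ne_zero (f := φ) (fun h => by simp [h] at hv)
            omega)
          simp [LinearMap.det_zero, zero_pow (Module.finrank_pos (R := F) (M := LinearMap.ker φ)).ne'] at hdet
        · have h0 : schur v φ hv g - LinearMap.id = 0 := LinearMap.ext fun w => Subtype.ext (by
            rw [LinearMap.sub_apply, Submodule.coe_sub, schur_coe v φ hv g hφA.2, ha w w.2, one a ha0, one_smul]
            simp)
          rw [← hr', h0, LinearMap.range_zero, finrank_bot, hr3] at hr1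
          omega
      obtain ⟨c1, c2, c3, c4⟩ := conclude φ hv hφA.2 h1 hs
      rw [← hr'] at hr1
      exact ⟨v, φ, hv, hφA.2, c1, hYv, c2, fun _ => by omega, fun _ => ⟨by split_ifs <;> omega, c3,
        c4 fun h => h1 (h2 h)⟩⟩
    · by_cases hr3 : 3 ≤ r
      · obtain ⟨φ, hφA, hφ⟩ := pick (B1 ∪ B2 ∪ Bs) (by
          have e1 := Set.ncard_union_le (B1 ∪ B2) Bs
          have e2 := Set.ncard_union_le B1 B2
          have e3 : q ^ (n - (r + 1)) ≤ q ^ (n - 4) := Nat.pow_le_pow_right (by omega) (by omega)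
          rw [hp, hp' hn4]
          rw [hp' hn4] at hb1
          rcases hmain with ⟨h4, -⟩ | h5
          · nlinarith [hpos (n - 4)]
          · have : 2 ≤ q ^ (n - 4) := le_trans hq2 (by
              calc q = q ^ 1 := (pow_one q).symm
                _ ≤ q ^ (n - 4) := Nat.pow_le_pow_right (by omega) (by omega))
            nlinarith)
        simp only [Set.mem_union, not_or] at hφ
        obtain ⟨⟨h1, h2⟩, h3⟩ := hφ
        have hv := hφA.1
        obtain ⟨c1, c2, c3, c4⟩ := conclude φ hv hφA.2 h1 h3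
        have hrk := rank_schur v φ hv g hφA.2
        have hr1 : (if q = 2 then 3 else 2) ≤ finrank F (LinearMap.range (schur v φ hv g - LinearMap.id)) ∧
            2 ≤ finrank F (LinearMap.range (schur v φ hv g - LinearMap.id)) := by
          rcases lt_or_eq_of_le hrn with hlt | heq
          · have := (hrk.2 (hvim hlt)).1
            rw [← hr'] at this
            split_ifs with h
            · have : r ≠ 3 := fun h' => hspecial ⟨h, h'⟩
              omega
            · omega
          · have := hrk.1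
            rw [← hr'] at this
            split_ifs with h <;> omega
        exact ⟨v, φ, hv, hφA.2, c1, hYv, c2, fun _ => hr1.2, fun _ => ⟨hr1.1, c3, c4 h2⟩⟩
      · have hq3 : q ≠ 2 := fun h => by rw [if_pos h] at hr; omega
        obtain ⟨φ, hφA, hφ⟩ := pick (B1 ∪ B2 ∪ B3 ∪ Bs) (by
          have e1 := Set.ncard_union_le (B1 ∪ B2 ∪ B3) Bs
          have e2 := Set.ncard_union_le (B1 ∪ B2) B3
          have e2' := Set.ncard_union_le B1 B2
          rw [show n - (r + 1) = n - 3 by omega] at hb2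
          rw [show n - (n - r + 1) = 1 by omega, pow_one] at hb3
          rw [hp]
          rw [hp' hn4] at hb1 hb2 ⊢
          rcases hmain with ⟨h4, -⟩ | h5
          · nlinarith [hpos (n - 4)]
          · have : 3 ≤ q ^ (n - 4) := le_trans (by omega : 3 ≤ q) (by
              calc q = q ^ 1 := (pow_one q).symm
                _ ≤ q ^ (n - 4) := Nat.pow_le_pow_right (by omega) (by omega))
            have k1 := Nat.mul_le_mul_right (q * q ^ (n - 4)) (by omega : 3 ≤ q)
            have k2 := Nat.mul_le_mul_left q this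
            omega)
        simp only [Set.mem_union, not_or] at hφ
        obtain ⟨⟨⟨h1, h2⟩, h3⟩, h4⟩ := hφ
        have hv := hφA.1
        obtain ⟨c1, c2, c3, c4⟩ := conclude φ hv hφA.2 h1 h4
        obtain ⟨k, hk, hk0⟩ : ∃ k, g k = k ∧ φ k ≠ 0 := by
          by_contra h
          push Not at h
          exact h3 ⟨hφA, h⟩
        have hr1 := ((rank_schur v φ hv g hφA.2).2 (hvim (by change r < n; omega))).2 k hk hk0
        rw [← hr'] at hr1
        exact ⟨v, φ, hv, hφA.2, c1, hYv, c2, fun _ => by omega, fun _ => ⟨by rw [if_neg hq3]; omega, c3, c4 h2⟩⟩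
  · -- the last step
    by_cases hn3' : n = 3
    · obtain ⟨φ, hφA, hφ⟩ := pick (B1 ∪ Bs) (by
        have e1 := Set.ncard_union_le B1 Bs
        rw [show n - 3 = 0 by omega, pow_zero] at hb1
        rw [show n - 2 = 1 by omega, pow_one]
        omega)
      simp only [Set.mem_union, not_or] at hφ
      obtain ⟨c1, c2, -, -⟩ := conclude φ hφA.1 hφA.2 hφ.1 hφ.2
      exact ⟨v, φ, hφA.1, hφA.2, c1, hYv, c2, fun h => by omega, fun h => absurd h hmain⟩
    · have hn4 : n = 4 := by omega
      have hq3 : q ≤ 3 := by omega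
      rw [show n - 3 = 1 by omega, pow_one] at hb1
      by_cases hr3 : 3 ≤ r
      · obtain ⟨φ, hφA, hφ⟩ := pick (B1 ∪ Bs) (by
          have e1 := Set.ncard_union_le B1 Bs
          rw [show n - 2 = 2 by omega]
          nlinarith)
        simp only [Set.mem_union, not_or] at hφ
        obtain ⟨c1, c2, -, -⟩ := conclude φ hφA.1 hφA.2 hφ.1 hφ.2
        have hrk := rank_schur v φ hφA.1 g hφA.2
        refine ⟨v, φ, hφA.1, hφA.2, c1, hYv, c2, fun _ => ?_, fun h => absurd h hmain⟩
        rcases lt_or_eq_of_le hrn with hlt | heq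
        · have := (hrk.2 (hvim hlt)).1
          rw [← hr'] at this
          omega
        · have := hrk.1
          rw [← hr'] at this
          omega
      · have hq2' : q ≠ 2 := fun h => by rw [if_pos h] at hr; omega
        obtain ⟨φ, hφA, hφ⟩ := pick (B1 ∪ B3 ∪ Bs) (by
          have e1 := Set.ncard_union_le (B1 ∪ B3) Bs
          have e2 := Set.ncard_union_le B1 B3
          rw [show n - (n - r + 1) = 1 by omega, pow_one] at hb3
          rw [show n - 2 = 2 by omega, pow_two]
          have k1 := Nat.mul_le_mul_right q (by omega : 3 ≤ q)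
          omega)
        simp only [Set.mem_union, not_or] at hφ
        obtain ⟨⟨h1, h3⟩, hs⟩ := hφ
        obtain ⟨c1, c2, -, -⟩ := conclude φ hφA.1 hφA.2 h1 hs
        obtain ⟨k, hk, hk0⟩ : ∃ k, g k = k ∧ φ k ≠ 0 := by
          by_contra h
          push Not at h
          exact h3 ⟨hφA, h⟩
        have hr1 := ((rank_schur v φ hφA.1 g hφA.2).2 (hvim (by change r < n; omega))).2 k hk hk0
        rw [← hr'] at hr1
        exact ⟨v, φ, hφA.1, hφA.2, c1, hYv, c2, fun _ => by omega, fun h => absurd h hmain⟩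

end Cfsg.Agent.Commutator
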